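import Cfsg.Agent.Lib.CharsMore.Gallagher
import Cfsg.Agent.Lib.CharsMore.Extend
import Cfsg.Agent.Lib.CharApps.Galois
import Mathlib.LinearAlgebra.PID

/-!
# Eigenspaces of a fixed-point-free operator in the representation of an extraspecial `2`-group

An operator `P` of odd prime order `r` normalises an irreducible group of operators `ρ F` acting
without fixed points on it modulo the scalars; a `2`-group `T` of operators commutes with `P`. Galois
conjugation shows that the eigenspaces of `P` for the non-trivial eigenvalues are isomorphic modules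
for `T`, of odd dimension.
-/

set_option autoImplicit false
set_option linter.unusedSectionVars false
set_option linter.style.haveILetI false

namespace CfsgLib.ExtraExt

open Cfsg CfsgLib.CharsMore
open scoped ComplexConjugate

section Core

variable {V : Type} [AddCommGroup V] [Module ℂ V] [FiniteDimensional ℂ V]

/-- A scalar power sum over a non-trivial root of unity vanishes. -/
theorem sum_pow_eq_zero {r : ℕ} {μ : ℂ} (hμ : μ ^ r = 1) (hμ1 : μ ≠ 1) :
    ∑ i ∈ Finset.range r, μ ^ i = 0 := by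
  rw [geom_sum_eq hμ1, hμ, sub_self, zero_div]

/-- The restriction of commuting operators to an eigenspace. -/
noncomputable def eigenRep {S : Type*} [Group S] (T : S →* (Module.End ℂ V)ˣ)
    (P : Module.End ℂ V) (hc : ∀ x, (T x : Module.End ℂ V) * P = P * T x) (μ : ℂ) :
    Representation ℂ S (Module.End.eigenspace P μ) :=
  { toFun := fun x => LinearMap.restrict (T x : Module.End ℂ V)
      (p := Module.End.eigenspace P μ) (q := Module.End.eigenspace P μ) fun v hv => by
      rw [Module.End.mem_eigenspace_iff] at hv ⊢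
      calc P ((T x : Module.End ℂ V) v) = ((T x : Module.End ℂ V) * P) v := by rw [hc]; rfl
        _ = _ := by rw [Module.End.mul_apply, hv, map_smul]
    map_one' := LinearMap.ext fun v => Subtype.ext (by simp [LinearMap.restrict_apply])
    map_mul' := fun x y => LinearMap.ext fun v => Subtype.ext (by
      simp [LinearMap.restrict_apply, map_mul]) }

theorem coe_eigenRep {S : Type*} [Group S] (T : S →* (Module.End ℂ V)ˣ)
    (P : Module.End ℂ V) (hc : ∀ x, (T x : Module.End ℂ V) * P = P * T x) (μ : ℂ) (x : S)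
    (v : Module.End.eigenspace P μ) :
    (eigenRep T P hc μ x v : V) = (T x : Module.End ℂ V) v := rfl

/-- The character of an eigenspace, by projecting. -/
theorem character_eigenRep {S : Type*} [Group S] (T : S →* (Module.End ℂ V)ˣ) (P : Module.End ℂ V)
    (hc : ∀ x, (T x : Module.End ℂ V) * P = P * T x) {r : ℕ} (hr : 0 < r) (hP : P ^ r = 1)
    {μ : ℂ} (hμ : μ ^ r = 1) (x : S) :
    (eigenRep T P hc μ).character x = (r : ℂ)⁻¹ *
      ∑ i ∈ Finset.range r, μ⁻¹ ^ i * LinearMap.trace ℂ V ((T x : Module.End ℂ V) * P ^ i) := by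
  have hμ0 : μ ≠ 0 := fun h => by simp [h, hr.ne'] at hμ
  have hr0 : (r : ℂ) ≠ 0 := Nat.cast_ne_zero.2 hr.ne'
  set Q : Module.End ℂ V := (r : ℂ)⁻¹ • ∑ i ∈ Finset.range r, μ⁻¹ ^ i • P ^ i with hQ
  have hshift : P * (∑ i ∈ Finset.range r, μ⁻¹ ^ i • P ^ i) =
      μ • ∑ i ∈ Finset.range r, μ⁻¹ ^ i • P ^ i := by
    obtain ⟨n, rfl⟩ := Nat.exists_eq_add_of_le' hr
    have e : ∀ i : ℕ, P * (μ⁻¹ ^ i • P ^ i) = μ • (μ⁻¹ ^ (i + 1) • P ^ (i + 1)) := fun i => by
      rw [mul_smul_comm, ← pow_succ', smul_smul, pow_succ' μ⁻¹, ← mul_assoc, mul_inv_cancel₀ hμ0,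
        one_mul]
    rw [Finset.mul_sum, Finset.sum_congr rfl fun i _ => e i, ← Finset.smul_sum,
      Finset.sum_range_succ, Finset.sum_range_succ' (fun i => μ⁻¹ ^ i • P ^ i), hP, inv_pow, hμ,
      inv_one, pow_zero, pow_zero]
  have hmem : ∀ v, Q v ∈ Module.End.eigenspace P μ := fun v => by
    rw [Module.End.mem_eigenspace_iff, ← Module.End.mul_apply, hQ, mul_smul_comm, hshift, smul_comm]
    rfl
  have hfix : ∀ v ∈ Module.End.eigenspace P μ, Q v = v := by
    intro v hv
    have hp : ∀ i : ℕ, (P ^ i) v = μ ^ i • v := by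
      intro i
      induction i with
      | zero => simp
      | succ i ih => rw [pow_succ, Module.End.mul_apply, Module.End.mem_eigenspace_iff.1 hv,
          map_smul, ih, smul_smul, pow_succ, mul_comm]
    simp only [hQ, LinearMap.smul_apply, LinearMap.sum_apply, hp, smul_smul, ← mul_pow,
      inv_mul_cancel₀ hμ0, one_pow, one_smul, Finset.sum_const, Finset.card_range]
    rw [← Nat.cast_smul_eq_nsmul ℂ, smul_smul, inv_mul_cancel₀ hr0, one_smul]
  have hTQ : ∀ v, ((T x : Module.End ℂ V) * Q) v ∈ Module.End.eigenspace P μ := fun v => by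
    rw [Module.End.mul_apply, ← coe_eigenRep T P hc μ x ⟨_, hmem v⟩]
    exact Subtype.mem _
  have hrestrict : (eigenRep T P hc μ x) =
      ((T x : Module.End ℂ V) * Q).restrict (fun v _ => hTQ v) := by
    refine LinearMap.ext fun v => Subtype.ext ?_
    show (eigenRep T P hc μ x v : V) = ((T x : Module.End ℂ V) * Q) v
    rw [coe_eigenRep, Module.End.mul_apply, hfix _ v.2]
  rw [Representation.character, hrestrict, LinearMap.trace_restrict_eq_of_forall_mem _ _ hTQ,
    hQ, mul_smul_comm, Finset.mul_sum, map_smul, map_sum, smul_eq_mul]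
  congr 1
  exact Finset.sum_congr rfl fun i _ => by rw [mul_smul_comm, map_smul, smul_eq_mul]

/-- Traces of `T x * P ^ j` do not depend on `j ≠ 0`, and `|trace P| = 1`. -/
theorem trace_galois {F : Type*} [Group F] [Finite F] {S : Type*} [Group S] [Finite S]
    (ρ : Representation ℂ F V) [ρ.IsIrreducible] (hF : IsPGroup 2 F) (hS : IsPGroup 2 S)
    {r : ℕ} [hrp : Fact r.Prime] (hr2 : r ≠ 2)
    (T : S →* (Module.End ℂ V)ˣ) (P : (Module.End ℂ V)ˣ) (hP : P ^ r = 1)
    (hdet : LinearMap.det (P : Module.End ℂ V) = 1) (hc : ∀ x, Commute (T x) P)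
    (φ : S → F → F) (hT : ∀ x f, (T x : Module.End ℂ V) * ρ f = ρ (φ x f) * T x)
    (γ : F → F) (hPρ : ∀ f, (P : Module.End ℂ V) * ρ f = ρ (γ f) * P)
    (htr : ∀ f : F, ∃ q : ℚ, LinearMap.trace ℂ V (ρ f) = q)
    (hγ : ∀ g : F, ∃ e : F, ρ g = ρ e⁻¹ * ρ (γ e) ∨ ρ g = -(ρ e⁻¹ * ρ (γ e))) :
    (LinearMap.trace ℂ V (P : Module.End ℂ V) *
        conj (LinearMap.trace ℂ V (P : Module.End ℂ V)) = 1) ∧
      (∃ l, Module.finrank ℂ V = 2 ^ l) ∧
      ∀ (x : S) (j : ℕ), ¬ r ∣ j →
        LinearMap.trace ℂ V ((T x : Module.End ℂ V) * (P : Module.End ℂ V) ^ j) =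
          LinearMap.trace ℂ V ((T x : Module.End ℂ V) * (P : Module.End ℂ V)) := by
  classical
  haveI : Fact (Nat.Prime 2) := ⟨Nat.prime_two⟩
  let u : F →* (Module.End ℂ V)ˣ := ρ.toHomUnits
  have hu : ∀ f, (u f : Module.End ℂ V) = ρ f := fun f => rfl
  have hPfin : Finite (Subgroup.zpowers P) :=
    (isOfFinOrder_iff_pow_eq_one.2 ⟨r, hrp.out.pos, hP⟩).finite_zpowers.to_subtype
  let Q : S × Subgroup.zpowers P →* (Module.End ℂ V)ˣ :=
    T.noncommCoprod (Subgroup.zpowers P).subtype fun x ⟨y, hy⟩ => by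
      obtain ⟨i, rfl⟩ := hy
      exact (hc x).zpow_right i
  have hQT : ∀ x, T x ∈ Q.range := fun x => ⟨(x, 1), by simp [Q, MonoidHom.noncommCoprod_apply]⟩
  have hQP : P ∈ Q.range :=
    ⟨(1, ⟨P, Subgroup.mem_zpowers P⟩), by simp [Q, MonoidHom.noncommCoprod_apply]⟩
  have hnT : ∀ x, T x ∈ Subgroup.normalizer (u.range : Set (Module.End ℂ V)ˣ) := by
    intro x
    have key : ∀ y f, T y * u f * (T y)⁻¹ ∈ u.range := fun y f =>
      ⟨φ y f, by rw [eq_mul_inv_iff_mul_eq]; exact Units.ext (hT y f).symm⟩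
    refine Subgroup.mem_normalizer_iff.2 fun n => ⟨?_, fun h => ?_⟩
    · rintro ⟨f, rfl⟩; exact key x f
    · obtain ⟨f, hf⟩ := h
      have := key x⁻¹ f
      rw [hf, map_inv] at this
      simpa [mul_assoc] using this
  have hnP : P ∈ Subgroup.normalizer (u.range : Set (Module.End ℂ V)ˣ) := by
    have key : ∀ (i : ℕ) f, P ^ i * u f * (P ^ i)⁻¹ ∈ u.range := by
      intro i
      induction i with
      | zero => intro f; exact ⟨f, by simp⟩
      | succ i ih =>
        intro f
        have h1 : P * u f * P⁻¹ = u (γ f) := by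
          rw [mul_inv_eq_iff_eq_mul]; exact Units.ext (hPρ f)
        rw [pow_succ, show P ^ i * P * u f * (P ^ i * P)⁻¹ = P ^ i * (P * u f * P⁻¹) * (P ^ i)⁻¹ by
          group, h1]
        exact ih _
    refine Subgroup.mem_normalizer_iff.2 fun n => ⟨?_, fun h => ?_⟩
    · rintro ⟨f, rfl⟩; simpa using key 1 f
    · obtain ⟨f, hf⟩ := h
      have := key (r - 1) f
      rw [hf, show P ^ (r - 1) * (P * n * P⁻¹) * (P ^ (r - 1))⁻¹ =
        (P ^ (r - 1) * P) * n * (P ^ (r - 1) * P)⁻¹ by group,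
        pow_sub_one_mul hrp.out.ne_zero, hP, one_mul, inv_one, mul_one] at this
      exact this
  have hQn : Q.range ≤ Subgroup.normalizer (u.range : Set (Module.End ℂ V)ˣ) := by
    rintro _ ⟨⟨x, y, hy⟩, rfl⟩
    rw [MonoidHom.noncommCoprod_apply]
    exact mul_mem (hnT x) (Subgroup.zpowers_le.2 hnP hy)
  set Y : Subgroup (Module.End ℂ V)ˣ := u.range ⊔ Q.range with hY
  haveI : Finite Y := by
    haveI : Finite u.range := Finite.of_surjective u.rangeRestrict u.rangeRestrict_surjective
    haveI : Finite Q.range := Finite.of_surjective Q.rangeRestrict Q.rangeRestrict_surjective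
    have h : ((Y : Subgroup (Module.End ℂ V)ˣ) : Set (Module.End ℂ V)ˣ).Finite := by
      rw [hY, Subgroup.coe_mul_of_right_le_normalizer_left _ _ hQn]
      exact (Set.toFinite _).mul (Set.toFinite _)
    exact h.to_subtype
  haveI := Fintype.ofFinite Y
  haveI := Chars.irrFintype Y
  let R : Representation ℂ Y V := (Units.coeHom _).comp Y.subtype
  let ι : F →* Y := u.codRestrict Y fun f => Subgroup.mem_sup_left ⟨f, rfl⟩
  have hRι : (R.comp ι : Representation ℂ F V) = ρ := MonoidHom.ext fun f => rfl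
  haveI hirrι : Representation.IsIrreducible (R.comp ι : Representation ℂ F V) := by
    rw [hRι]; infer_instance
  haveI := isIrreducible_of_comp ι R
  set N : Subgroup Y := ι.range with hN
  haveI hNn : N.Normal := by
    have : N = u.range.subgroupOf Y := by
      ext y
      exact ⟨fun ⟨f, hf⟩ => ⟨f, congrArg Subtype.val hf⟩, fun ⟨f, hf⟩ => ⟨f, Subtype.ext hf⟩⟩
    rw [this]
    exact Subgroup.normal_subgroupOf_iff_le_normalizer le_sup_left |>.2
      (sup_le Subgroup.le_normalizer hQn)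
  haveI : Finite N := inferInstance
  haveI := Fintype.ofFinite N
  haveI hNirr : Representation.IsIrreducible (R.comp N.subtype : Representation ℂ N V) := by
    haveI : Representation.IsIrreducible
        ((R.comp N.subtype : Representation ℂ N V).comp ι.rangeRestrict : Representation ℂ F V) :=
      hirrι
    exact isIrreducible_of_comp ι.rangeRestrict _
  have hf1 : IsIrrCharacter Y R.character := Chars.isIrrCharacter_character R
  have hfN : IsIrrCharacter N (fun n : N => R.character n) :=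
    Chars.isIrrCharacter_character (R.comp N.subtype : Representation ℂ N V)
  have hfy : ∀ y : Y, R.character y = LinearMap.trace ℂ V ((y : (Module.End ℂ V)ˣ) : Module.End ℂ V) :=
    fun y => rfl
  obtain ⟨a, ha⟩ := hF.exists_card_eq
  obtain ⟨b, hb⟩ := hS.exists_card_eq
  have hr0 : r ≠ 0 := hrp.out.ne_zero
  have h2r : Nat.Coprime 2 r := (Nat.coprime_primes Nat.prime_two hrp.out).2 (Ne.symm hr2)
  obtain ⟨l, -, hl⟩ := (Nat.dvd_prime_pow Nat.prime_two).1 (ha ▸ Chars.finrank_dvd_card ρ)
  set L := Nat.card F * Nat.card S with hL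
  have hLr : Nat.Coprime L r := by
    rw [hL, ha, hb, ← pow_add]; exact Nat.Coprime.pow_left _ h2r
  have hpowL : ∀ (g : F) (x : S), (u g * T x) ^ L = 1 := by
    intro g x
    have hform : ∀ i : ℕ, ∃ g', (u g * T x) ^ i = u g' * T (x ^ i) := by
      intro i
      induction i with
      | zero => exact ⟨1, by simp⟩
      | succ i ih =>
        obtain ⟨g', hg'⟩ := ih
        refine ⟨g' * φ (x ^ i) g, ?_⟩
        rw [pow_succ, hg', pow_succ, map_mul, map_mul, mul_assoc (u g'), ← mul_assoc (T (x ^ i)),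
          show T (x ^ i) * u g = u (φ (x ^ i) g) * T (x ^ i) from Units.ext (hT _ g)]
        simp only [mul_assoc]
    obtain ⟨g', hg'⟩ := hform (Nat.card S)
    rw [hL, mul_comm, pow_mul, hg', pow_card_eq_one', map_one, mul_one, ← map_pow, pow_card_eq_one',
      map_one]
  -- the absolute value of the trace of `P`
  have hPY : P ∈ Y := Subgroup.mem_sup_right hQP
  have habs : LinearMap.trace ℂ V (P : Module.End ℂ V) *
      conj (LinearMap.trace ℂ V (P : Module.End ℂ V)) = 1 := by
    have h := coset_norm_avg N hf1 hfN ⟨P, hPY⟩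
    have hterm : ∀ n : N, R.character ((n : Y) * ⟨P, hPY⟩) * conj (R.character ((n : Y) * ⟨P, hPY⟩))
        = LinearMap.trace ℂ V (P : Module.End ℂ V) *
          conj (LinearMap.trace ℂ V (P : Module.End ℂ V)) := by
      rintro ⟨_, g, rfl⟩
      rw [hfy]
      show LinearMap.trace ℂ V (ρ g * P) * conj (LinearMap.trace ℂ V (ρ g * P)) = _
      obtain ⟨e, he⟩ := hγ g
      have e1 : LinearMap.trace ℂ V (ρ e⁻¹ * ρ (γ e) * P) = LinearMap.trace ℂ V (P : Module.End ℂ V) := by
        rw [mul_assoc, ← hPρ, LinearMap.trace_mul_comm, mul_assoc, ← map_mul, mul_inv_cancel,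
          map_one, mul_one]
      rcases he with he | he
      · rw [he, e1]
      · rw [he, neg_mul, map_neg, e1, map_neg, neg_mul_neg]
    rw [Finset.sum_congr rfl fun n _ => hterm n, Finset.sum_const, Finset.card_univ,
      ← Nat.card_eq_fintype_card, nsmul_eq_mul, inv_mul_cancel_left₀ (Chars.card_ne_zero N)] at h
    exact h
  refine ⟨habs, ⟨l, hl⟩, fun x j hj => ?_⟩
  -- the Galois automorphism
  obtain ⟨k, hk1, hkj⟩ := Nat.chineseRemainder hLr 1 j
  have hk : k.Coprime (L * r) := by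
    refine Nat.Coprime.mul_right ?_ ?_
    · rw [Nat.coprime_iff_gcd_eq_one, hk1.gcd_eq, Nat.gcd_one_left]
    · exact ((hrp.out.coprime_iff_not_dvd).2 fun h => hj (hkj.dvd_iff dvd_rfl |>.1 h)).symm
  haveI : NeZero (L * r) := ⟨mul_ne_zero (mul_ne_zero Nat.card_pos.ne' Nat.card_pos.ne') hr0⟩
  obtain ⟨σ, hσ⟩ := CharApps.exists_galois_pow (L * r) hk
  have hgal : ∀ y : Y, y ^ (L * r) = 1 → σ (R.character y) = R.character (y ^ k) := fun y hy =>
    CharApps.galois_apply σ hσ (Chars.isCharacter_character R) y hy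
  have hψ := CharApps.isIrr_galois ⟨R.character, hf1⟩ σ
  have hrat : ∀ n : N, σ (R.character n) = R.character n := by
    rintro ⟨_, g, rfl⟩
    obtain ⟨q, hq⟩ := htr g
    show σ (R.character (ι g)) = R.character (ι g)
    rw [hfy, show (((ι g : Y) : (Module.End ℂ V)ˣ) : Module.End ℂ V) = ρ g from rfl, hq, map_ratCast]
  obtain ⟨β, hβN, hβ⟩ := gallagher_exists N hf1 hfN hψ (by
    rw [show (fun n : N => σ (R.character n)) = fun n : N => R.character n from funext hrat,
      Chars.inner_irr_self ⟨_, hfN⟩]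
    exact one_ne_zero)
  have hβy : ∀ y, σ (R.character y) = (β : Y → ℂ) y * R.character y := fun y => congrFun hβ y
  have hβ1 : (β : Y → ℂ) 1 = 1 := by
    have h := hβy 1
    rw [Representation.char_one, map_natCast] at h
    haveI := nontrivial_of_isIrreducible ρ
    exact (mul_eq_right₀ (Nat.cast_ne_zero.2 Module.finrank_pos.ne')).1 h.symm
  obtain ⟨lam, hlam⟩ := Chars.exists_hom_of_degree_one (Chars.isCharacter_of_irr β.2) hβ1
  have hlamN : ∀ n : N, lam n = 1 := fun n => Units.ext <| by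
    have h := quotIrr_mul N hβN n 1
    rw [mul_one, hβ1, hlam] at h
    simpa using h
  have hTY : ∀ x, T x ∈ Y := fun x => Subgroup.mem_sup_right (hQT x)
  have hlamT : lam ⟨T x, hTY x⟩ = 1 := by
    obtain ⟨n, -, hn⟩ : ∃ n : N, n ∈ Finset.univ ∧ R.character ((n : Y) * ⟨T x, hTY x⟩) ≠ 0 := by
      by_contra h
      push Not at h
      have h' := coset_norm_avg N hf1 hfN ⟨T x, hTY x⟩
      rw [Finset.sum_eq_zero fun n hn => by rw [h n hn, zero_mul], mul_zero] at h'
      exact zero_ne_one h'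
    obtain ⟨_, g, rfl⟩ := n
    set y : Y := ι g * ⟨T x, hTY x⟩
    have hyL : y ^ L = 1 := Subtype.ext (hpowL g x)
    have hyk : y ^ k = y :=
      (pow_eq_pow_iff_modEq.2 (hk1.of_dvd (orderOf_dvd_of_pow_eq_one hyL))).trans (pow_one y)
    have h := hgal y (by rw [pow_mul, hyL, one_pow])
    rw [hyk, hβy] at h
    have h2 := (mul_eq_right₀ hn).1 h
    rw [hlam] at h2
    have h3 : lam y = 1 := Units.ext h2
    rw [map_mul, hlamN ⟨ι g, g, rfl⟩, one_mul] at h3
    exact h3
  have hlamP : lam ⟨P, hPY⟩ = 1 := by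
    set C : Subgroup Y := Subgroup.zpowers ⟨P, hPY⟩
    haveI : Finite C := inferInstance
    let A : Representation ℂ C V :=
     { toFun := fun y : C => R ((y : Y) ^ k)
       map_one' := by simp
       map_mul' := fun y w => by
        have hcomm : Commute (y : Y) (w : Y) := by
          obtain ⟨i, hi⟩ := y.2
          obtain ⟨i', hi'⟩ := w.2
          rw [← hi, ← hi']
          exact (Commute.refl (⟨P, hPY⟩ : Y)).zpow_zpow i i'
        rw [Subgroup.coe_mul, hcomm.mul_pow, map_mul] }
    let B : Representation ℂ C V :=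
     { toFun := fun y : C => ((lam (y : Y) : ℂˣ) : ℂ) • R (y : Y)
       map_one' := by simp
       map_mul' := fun y w => by
        rw [Subgroup.coe_mul, map_mul lam, map_mul R, smul_mul_smul_comm, Units.val_mul] }
    have hAB : A.character = B.character := funext fun y => by
      have hy : (y : Y) ^ (L * r) = 1 := by
        obtain ⟨i, hi⟩ := y.2
        have hPr : (⟨P, hPY⟩ : Y) ^ r = 1 := Subtype.ext hP
        rw [← hi, ← zpow_natCast, ← zpow_mul, mul_comm, zpow_mul, zpow_natCast, mul_comm, pow_mul,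
          hPr, one_pow, one_zpow]
      show LinearMap.trace ℂ V (R ((y : Y) ^ k)) = LinearMap.trace ℂ V (((lam (y : Y) : ℂˣ) : ℂ) • R (y : Y))
      rw [map_smul, smul_eq_mul, show LinearMap.trace ℂ V (R ((y : Y) ^ k)) = R.character ((y : Y) ^ k)
        from rfl, ← hgal _ hy, hβy, hlam]
      rfl
    obtain ⟨e⟩ := Chars.equiv_of_character_eq A B hAB
    have h := congrArg (fun h : C →* ℂˣ => ((h ⟨⟨P, hPY⟩, Subgroup.mem_zpowers _⟩ : ℂˣ) : ℂ))
      (detHom_eq_of_equiv e)
    simp only [coe_detHom] at h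
    have hA : LinearMap.det (A ⟨⟨P, hPY⟩, Subgroup.mem_zpowers _⟩) = 1 := by
      show LinearMap.det (((P ^ k : (Module.End ℂ V)ˣ)) : Module.End ℂ V) = 1
      rw [Units.val_pow_eq_pow_val, map_pow, hdet, one_pow]
    have hB : LinearMap.det (B ⟨⟨P, hPY⟩, Subgroup.mem_zpowers _⟩) =
        ((lam ⟨P, hPY⟩ : ℂˣ) : ℂ) ^ Module.finrank ℂ V := by
      show LinearMap.det (((lam ⟨P, hPY⟩ : ℂˣ) : ℂ) • (P : Module.End ℂ V)) = _
      rw [LinearMap.det_smul, hdet, mul_one]
    rw [hA, hB, hl] at h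
    have h2 : lam ⟨P, hPY⟩ ^ (2 ^ l) = 1 := Units.ext (by simpa using h)
    have h3 : lam ⟨P, hPY⟩ ^ r = 1 := by
      rw [← map_pow, show (⟨P, hPY⟩ : Y) ^ r = 1 from Subtype.ext hP, map_one]
    exact pow_gcd_eq_one.2 ⟨h2, h3⟩ |> fun h => by
      rwa [(Nat.Coprime.pow_left l h2r).gcd_eq_one, pow_one] at h
  set y : Y := ⟨T x, hTY x⟩ * ⟨P, hPY⟩
  have hy : y ^ (L * r) = 1 := Subtype.ext <| by
    show (T x * P) ^ (L * r) = 1
    rw [(hc x).mul_pow, mul_comm L r, pow_mul P, hP, one_pow, mul_one, ← map_pow, hL,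
      ← mul_assoc, pow_mul, pow_card_eq_one', map_one]
  have h := hgal y hy
  rw [hβy, hlam] at h
  simp only at h
  rw [show lam y = 1 by rw [map_mul, hlamT, hlamP, one_mul], Units.val_one, one_mul] at h
  have hyk : (y ^ k : Y) = (⟨T x * P ^ j, Subgroup.mul_mem _ (hTY x) (pow_mem hPY j)⟩ : Y) :=
    Subtype.ext <| by
      show (T x * P) ^ k = T x * P ^ j
      rw [(hc x).mul_pow, ← map_pow]
      congr 1
      · congr 1
        exact (pow_eq_pow_iff_modEq.2 (hk1.of_dvd ((orderOf_dvd_natCard x).trans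
          (Dvd.intro_left _ hL.symm)))).trans (pow_one x)
      · exact pow_eq_pow_iff_modEq.2 (hkj.of_dvd (orderOf_dvd_of_pow_eq_one hP))
  rw [hyk] at h
  exact h.symm

end Core

end CfsgLib.ExtraExt
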