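import Cfsg.Agent.Lib.CharApps.ExtraspecialExtend.Lift
import Cfsg.Agent.Lib.CharApps.ExtraspecialExtend.Core

/-!
# The base case: one fixed-point-free automorphism of odd prime order
-/

set_option autoImplicit false
set_option linter.unusedSectionVars false

namespace CfsgLib.ExtraExt

open Cfsg CfsgLib.CharsMore
open scoped ComplexConjugate
open Ctx (impl_inv impl_congr impl_one impl_smul impl_mul)

section Res

variable {W : Type} [AddCommGroup W] [Module ℂ W] [FiniteDimensional ℂ W] (W1 : Submodule ℂ W)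

/-- The units preserving a subspace together with their inverses. -/
def presUnits : Subgroup (Module.End ℂ W)ˣ where
  carrier := {U | (∀ w ∈ W1, (U : Module.End ℂ W) w ∈ W1) ∧
    ∀ w ∈ W1, ((U⁻¹ : (Module.End ℂ W)ˣ) : Module.End ℂ W) w ∈ W1}
  one_mem' := by simp
  mul_mem' := fun {U V} hU hV => ⟨fun w hw => by
      rw [Units.val_mul, Module.End.mul_apply]; exact hU.1 _ (hV.1 w hw),
    fun w hw => by
      rw [mul_inv_rev, Units.val_mul, Module.End.mul_apply]; exact hV.2 _ (hU.2 w hw)⟩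
  inv_mem' := fun {U} hU => ⟨hU.2, by rw [inv_inv]; exact hU.1⟩

/-- Restriction to the subspace. -/
noncomputable def resHom : presUnits W1 →* (Module.End ℂ W1)ˣ :=
  MonoidHom.toHomUnits
    { toFun := fun U => LinearMap.restrict ((U : (Module.End ℂ W)ˣ) : Module.End ℂ W) U.2.1
      map_one' := LinearMap.ext fun w => Subtype.ext (by simp [LinearMap.restrict_apply])
      map_mul' := fun U V => LinearMap.ext fun w => Subtype.ext (by
        simp [LinearMap.restrict_apply]) }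

theorem coe_resHom (U : presUnits W1) (w : W1) :
    (((resHom W1 U : (Module.End ℂ W1)ˣ) : Module.End ℂ W1) w : W) =
      ((U : (Module.End ℂ W)ˣ) : Module.End ℂ W) w := rfl

theorem scl_mem (r : ℂ) (hr : r ≠ 0) : scl (W := W) r hr ∈ presUnits W1 := by
  refine ⟨fun w hw => ?_, fun w hw => ?_⟩
  · simpa [scl, Algebra.algebraMap_eq_smul_one] using W1.smul_mem r hw
  · simpa [scl, Algebra.algebraMap_eq_smul_one] using W1.smul_mem r⁻¹ hw

theorem res_scl_mul (r : ℂ) (hr : r ≠ 0) (U : presUnits W1) :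
    ((resHom W1 (⟨scl r hr, scl_mem W1 r hr⟩ * U) : (Module.End ℂ W1)ˣ) : Module.End ℂ W1) =
      r • ((resHom W1 U : (Module.End ℂ W1)ˣ) : Module.End ℂ W1) := by
  refine LinearMap.ext fun w => Subtype.ext ?_
  rw [coe_resHom, Subgroup.coe_mul, coe_scl_mul, LinearMap.smul_apply, LinearMap.smul_apply,
    Submodule.coe_smul, coe_resHom]

end Res

variable {G : Type*} [Group G] [Finite G] {E : Subgroup G} [E.Normal]
  {W : Type} [AddCommGroup W] [Module ℂ W] [FiniteDimensional ℂ W]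
  {ρ : Representation ℂ E W} {z : E}

theorem conj_pow_congr {F : Subgroup E} {g h : G} (hh : Stab F h)
    (he : ∀ f ∈ F, conjBy E g f = conjBy E h f) : ∀ (n : ℕ), ∀ f ∈ F,
      conjBy E (g ^ n) f = conjBy E (h ^ n) f
  | 0 => fun f _ => by rw [pow_zero, pow_zero]
  | n + 1 => fun f hf => by
    rw [pow_succ, pow_succ, conjBy_mul, conjBy_mul, he f hf, conj_pow_congr hh he n _ (hh f hf)]

theorem Stab.pow {F : Subgroup E} {g : G} (hg : Stab F g) : ∀ n : ℕ, Stab F (g ^ n)
  | 0 => fun f hf => by rwa [pow_zero, conjBy_one]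
  | n + 1 => by rw [pow_succ]; exact (Stab.pow hg n).mul hg

/-- In a nondegenerate `F`, a fixed-point-free automorphism of odd order makes every element a
commutator with it, up to sign. -/
theorem exists_commutator_eq {F : Subgroup E} (c : Ctx ρ z) (hF : Nondeg z F) {r : ℕ} (hr : Odd r)
    {g : G} (hg : Stab F g) (hgr : ∀ f ∈ F, conjBy E (g ^ r) f = f)
    (hfix : ∀ f ∈ F, conjBy E g f = f → f = 1 ∨ f = z) (x : E) (hx : x ∈ F) :
    ∃ e ∈ F, ρ x = ρ e⁻¹ * ρ (conjBy E g e) ∨ ρ x = -(ρ e⁻¹ * ρ (conjBy E g e)) := by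
  classical
  let zF : F := ⟨z, hF.1⟩
  haveI hn : (Subgroup.zpowers zF).Normal := ⟨fun a ha b => by
    obtain ⟨i, rfl⟩ := ha
    have : Commute b zF := Subtype.ext (c.central _).symm
    rw [(this.zpow_right i).eq, mul_inv_cancel_right]
    exact ⟨i, rfl⟩⟩
  have hzs : ∀ a : F, a ∈ Subgroup.zpowers zF ↔ (a : E) = 1 ∨ (a : E) = z := by
    intro a
    refine ⟨?_, fun h => ?_⟩
    · rintro ⟨i, rfl⟩
      have h2 : zF ^ (2 : ℤ) = 1 := Subtype.ext (by rw [zpow_two]; exact c.sq)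
      rcases Int.even_or_odd' i with ⟨j, rfl | rfl⟩
      · left; show ((zF ^ (2 * j) : F) : E) = 1; rw [zpow_mul, h2, one_zpow]; rfl
      · right; show ((zF ^ (2 * j + 1) : F) : E) = z
        rw [zpow_add, zpow_mul, h2, one_zpow, one_mul, zpow_one]
    · rcases h with h | h
      · rw [show a = 1 from Subtype.ext h]; exact one_mem _
      · rw [show a = zF from Subtype.ext h]; exact Subgroup.mem_zpowers _
  have hcomm : ∀ a b : F ⧸ Subgroup.zpowers zF, a * b = b * a := by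
    intro a b
    induction a using QuotientGroup.induction_on with | H a => ?_
    induction b using QuotientGroup.induction_on with | H b => ?_
    rw [← QuotientGroup.mk_mul, ← QuotientGroup.mk_mul, eq_comm, QuotientGroup.eq]
    refine (hzs _).2 ?_
    rw [Subgroup.coe_mul, Subgroup.coe_inv, Subgroup.coe_mul, Subgroup.coe_mul]
    rcases c.comm (a : E) b with h | h
    · left; rw [h, inv_mul_cancel]
    · right; rw [h, c.central, inv_mul_cancel_left]
  let γ : F →* F := MonoidHom.mk' (fun e => ⟨conjBy E g e, hg e e.2⟩) fun a b => Subtype.ext (by simp)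
  let mk := QuotientGroup.mk' (Subgroup.zpowers zF)
  let φ : F →* F ⧸ Subgroup.zpowers zF := MonoidHom.mk' (fun e => (mk e)⁻¹ * mk (γ e)) fun a b => by
    rw [map_mul, map_mul, map_mul, mul_inv_rev, hcomm (mk b)⁻¹ (mk a)⁻¹]
    simp only [← mul_assoc]
    rw [mul_assoc _ (mk b)⁻¹ (mk (γ a)), hcomm (mk b)⁻¹ (mk (γ a))]
    simp only [← mul_assoc]
  have hker : φ.ker = Subgroup.zpowers zF := by
    ext a
    rw [MonoidHom.mem_ker]
    show (mk a)⁻¹ * mk (γ a) = 1 ↔ _
    rw [← map_inv, ← map_mul, QuotientGroup.mk'_apply, QuotientGroup.eq_one_iff, hzs, hzs]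
    show (a : E)⁻¹ * conjBy E g a = 1 ∨ (a : E)⁻¹ * conjBy E g a = z ↔ _
    refine ⟨?_, ?_⟩
    · rintro (h | h)
      · exact hfix a a.2 (inv_mul_eq_one.1 h).symm
      · exfalso
        have hga : conjBy E g a = a * z := by rw [← h, mul_inv_cancel_left]
        have hi : ∀ n : ℕ, conjBy E (g ^ n) a = a * z ^ n := by
          intro n
          induction n with
          | zero => simp [conjBy_one]
          | succ n ih => rw [pow_succ', conjBy_mul, ih, map_mul, map_pow, c.conj_z, hga, mul_assoc,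
              ← pow_succ']
        have := hi r
        obtain ⟨j, rfl⟩ := hr
        rw [hgr a a.2, pow_succ, pow_mul, sq, c.sq, one_pow, one_mul] at this
        exact c.ne_one (mul_eq_left.1 this.symm)
    · rintro (h | h)
      · left; rw [h, map_one (conjBy E g), inv_one, one_mul]
      · left; rw [h, c.conj_z, inv_mul_cancel]
  have hsurj : Function.Surjective φ := by
    rw [← MonoidHom.range_eq_top]
    refine Subgroup.eq_top_of_card_eq _ ?_
    rw [← Nat.card_congr (QuotientGroup.quotientKerEquivRange φ).toEquiv, hker]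
  obtain ⟨e, he⟩ := hsurj (mk ⟨x, hx⟩)
  refine ⟨e, e.2, ?_⟩
  have he' : ((mk e)⁻¹ * mk (γ e)) = mk ⟨x, hx⟩ := he
  rw [← map_inv, ← map_mul, QuotientGroup.mk'_apply, QuotientGroup.mk'_apply, QuotientGroup.eq,
    hzs] at he'
  rcases he' with h | h
  · left
    rw [Subgroup.coe_mul, Subgroup.coe_inv, inv_mul_eq_one] at h
    rw [show x = (e : E)⁻¹ * conjBy E g e from h.symm, map_mul]
  · right
    rw [Subgroup.coe_mul, Subgroup.coe_inv, inv_mul_eq_iff_eq_mul] at h
    rw [show x = ((e : E)⁻¹ * conjBy E g e) * z from h, map_mul, map_mul, c.rho_z, mul_neg, mul_one]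

/-- A `2`-group normalising a fixed-point-free group of odd prime order lifts. -/
theorem lifts_base (c : Ctx ρ z) {F : Subgroup E} (hF : Nondeg z F)
    (hFZ : ∃ a ∈ F, a ≠ 1 ∧ a ≠ z) {S : Subgroup G} (hS2 : IsPGroup 2 S) (hSF : ∀ x ∈ S, Stab F x)
    {r : ℕ} [hrp : Fact r.Prime] (hr2 : r ≠ 2) {g : G} (hgF : Stab F g)
    (hgr : ∀ f ∈ F, conjBy E (g ^ r) f = f)
    (hfix : ∀ f ∈ F, conjBy E g f = f → f = 1 ∨ f = z)
    (hconj : ∀ x ∈ S, ∃ a : ℕ, ∀ f ∈ F, conjBy E (x * g * x⁻¹) f = conjBy E (g ^ a) f) :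
    Lifts ρ F S := by
  classical
  haveI : Fact (Nat.Prime 2) := ⟨Nat.prime_two⟩
  haveI := c.nontrivial
  have hrodd : Odd r := hrp.out.odd_of_ne_two hr2
  -- periodicity of the powers of `g` on `F`
  have hper : ∀ a b : ℕ, a ≡ b [MOD r] → ∀ f ∈ F, conjBy E (g ^ a) f = conjBy E (g ^ b) f := by
    have h1 : ∀ a, ∀ f ∈ F, conjBy E (g ^ a) f = conjBy E (g ^ (a % r)) f := fun a f hf => by
      conv_lhs => rw [← Nat.mod_add_div a r, pow_add, pow_mul, conjBy_mul]
      have := conj_pow_congr (g := g ^ r) (h := (1 : G)) (fun f hf => by rwa [conjBy_one])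
        (fun f hf => by rw [hgr f hf, conjBy_one]) (a / r) f hf
      rw [this, one_pow, conjBy_one]
    intro a b hab f hf
    rw [h1 a f hf, h1 b f hf, hab]
  have hdvd : ∀ i : ℕ, (∀ f ∈ F, conjBy E (g ^ i) f = f) → r ∣ i := by
    intro i hi
    by_contra hni
    obtain ⟨u, -, hu⟩ := Nat.exists_mul_mod_eq_one_of_coprime
      ((hrp.out.coprime_iff_not_dvd.2 hni).symm) hrp.out.one_lt
    obtain ⟨a, haF, ha1, haz⟩ := hFZ
    have h := hper (i * u) 1 (by rw [Nat.ModEq, hu, Nat.mod_eq_of_lt hrp.out.one_lt]) a haF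
    rw [pow_one, pow_mul, conj_pow_congr (g := g ^ i) (h := (1 : G)) (fun f hf => by rwa [conjBy_one])
        (fun f hf => by rw [hi f hf, conjBy_one]) u a haF, one_pow, conjBy_one] at h
    rcases hfix a haF h.symm with h | h
    exacts [ha1 h, haz h]
  choose ea hea using hconj
  -- an irreducible constituent
  obtain ⟨W1, ⟨hW1ne, hW1st⟩, hW1min⟩ : ∃ W1, Minimal (fun P : Submodule ℂ W =>
      P ≠ ⊥ ∧ ∀ f ∈ F, ∀ w ∈ P, ρ f w ∈ P) W1 :=
    exists_minimal_of_wellFoundedLT _ ⟨⊤, top_ne_bot, fun f _ w _ => trivial⟩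
  haveI : Nontrivial W1 := Submodule.nontrivial_iff_ne_bot.2 hW1ne
  let ρ1 : Representation ℂ F W1 :=
    { toFun := fun f => LinearMap.restrict (ρ (f : E)) (hW1st f f.2)
      map_one' := LinearMap.ext fun w => Subtype.ext (by simp [LinearMap.restrict_apply])
      map_mul' := fun a b => LinearMap.ext fun w => Subtype.ext (by simp [LinearMap.restrict_apply]) }
  have hρ1 : ∀ (f : F) (w : W1), (ρ1 f w : W) = ρ (f : E) w := fun f w => rfl
  haveI hirr : ρ1.IsIrreducible := by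
    refine (Chars.isIrreducible_iff ρ1).2 ⟨inferInstance, fun U hU => ?_⟩
    by_cases hU0 : U.map W1.subtype = ⊥
    · left
      exact Submodule.map_injective_of_injective (Submodule.injective_subtype W1)
        (hU0.trans (Submodule.map_bot _).symm)
    · right
      have hle : U.map W1.subtype ≤ W1 := Submodule.map_subtype_le _ _
      have := hW1min ⟨hU0, fun f hf w hw => by
        obtain ⟨v, hv, rfl⟩ := Submodule.mem_map.1 hw
        exact Submodule.mem_map.2 ⟨ρ1 ⟨f, hf⟩ v, hU _ v hv, rfl⟩⟩ hle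
      refine eq_top_iff.2 fun v _ => ?_
      obtain ⟨v', hv', hvv⟩ := Submodule.mem_map.1 (this v.2)
      rwa [← Subtype.ext hvv]
  have hρ1z : ρ1 ⟨z, hF.1⟩ = -1 := LinearMap.ext fun w => Subtype.ext (by
    rw [hρ1]; show ρ z w = _; rw [c.rho_z]; simp)
  have htr0 : ∀ f : F, (f : E) ≠ 1 → (f : E) ≠ z → LinearMap.trace ℂ W1 (ρ1 f) = 0 := by
    intro f h1 hz
    obtain ⟨b, hb, hfb⟩ : ∃ b ∈ F, ¬ (f : E) * b = b * f := by
      by_contra h
      push Not at h
      rcases hF.2 f f.2 h with h | h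
      exacts [h1 h, hz h]
    have hb' : f * ⟨b, hb⟩ = ⟨z, hF.1⟩ * (⟨b, hb⟩ * f) :=
      Subtype.ext ((c.comm (f : E) b).resolve_left hfb)
    have h : ρ1 f = -(ρ1 ⟨b, hb⟩ * ρ1 f * ρ1 ⟨b, hb⟩⁻¹) := by
      calc ρ1 f = ρ1 (f * ⟨b, hb⟩ * ⟨b, hb⟩⁻¹) := by rw [mul_inv_cancel_right]
        _ = ρ1 (⟨z, hF.1⟩ * (⟨b, hb⟩ * f * ⟨b, hb⟩⁻¹)) := by rw [hb', mul_assoc]
        _ = _ := by rw [map_mul, hρ1z, map_mul, map_mul]; exact LinearMap.ext fun w => by simp
    have h' := congrArg (LinearMap.trace ℂ W1) h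
    rw [map_neg, LinearMap.trace_mul_comm, ← mul_assoc, ← map_mul, inv_mul_cancel, map_one,
      one_mul] at h'
    exact CharZero.eq_neg_self_iff.1 h'
  set zF : F := ⟨z, hF.1⟩ with hzF
  have hzF1 : zF ≠ 1 := fun h => c.ne_one (congrArg Subtype.val h)
  have htrQ : ∀ f : F, ∃ q : ℚ, LinearMap.trace ℂ W1 (ρ1 f) = q := by
    intro f
    by_cases h1 : (f : E) = 1
    · exact ⟨Module.finrank ℂ W1, by rw [show f = 1 from Subtype.ext h1, map_one, LinearMap.trace_one]; simp⟩
    by_cases hz : (f : E) = z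
    · exact ⟨-(Module.finrank ℂ W1 : ℚ), by
        rw [show f = zF from Subtype.ext hz, hρ1z, map_neg, LinearMap.trace_one]; simp⟩
    exact ⟨0, by rw [htr0 f h1 hz]; simp⟩
  have hF2 : IsPGroup 2 F := ((c.ext.1.1).to_subgroup F)
  -- implementers preserve the constituent
  have hpres : ∀ {x : G}, Stab F x → ∀ U : (Module.End ℂ W)ˣ, Impl ρ F x U → U ∈ presUnits W1 :=
    fun hx U hU => ⟨fun w hw => c.impl_preserves hF hx hU hW1st hw,
      fun w hw => c.impl_preserves hF hx.inv (impl_inv hx hU) hW1st hw⟩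
  -- the operator `P`
  obtain ⟨P0, hP0, -, -⟩ := c.exists_impl hF hgF
  obtain ⟨s, hs0, hs⟩ := c.exists_unit_scalar hF (g := (1 : G)) (fun f hf => by rwa [conjBy_one])
    (U := 1) (V := P0 ^ r) (by rw [Units.val_one]; exact impl_one F)
    (impl_congr (fun f hf => by rw [hgr f hf, conjBy_one])
      (by rw [Units.val_pow_eq_pow_val]; exact Ctx.impl_pow c hgF hP0 r))
  obtain ⟨μ0, hμ0⟩ := IsAlgClosed.exists_pow_nat_eq s⁻¹ hrp.out.pos
  have hμ0' : μ0 ≠ 0 := fun h => inv_ne_zero hs0 (by rw [← hμ0, h, zero_pow hrp.out.ne_zero])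
  have hP1r : (scl μ0 hμ0' * P0) ^ r = 1 := Units.ext <| by
    rw [(scl_comm _ _ _).mul_pow, scl, ← map_pow, Units.val_mul, hs]
    simp [Algebra.algebraMap_eq_smul_one, smul_pow, smul_smul, hμ0, hs0]
  set P1 := scl μ0 hμ0' * P0 with hP1
  have hP1I : Impl ρ F g P1 := by rw [hP1, coe_scl_mul]; exact impl_smul _ hP0
  set d := Module.finrank ℂ W1 with hd
  have hd0 : 0 < d := Module.finrank_pos
  obtain ⟨la, hla⟩ := (IsPGroup.iff_card.1 hF2)
  obtain ⟨l, -, hl⟩ := (Nat.dvd_prime_pow Nat.prime_two).1 (hla ▸ Chars.finrank_dvd_card ρ1)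
  have hdr : Nat.Coprime d r := by
    rw [hd, hl]; exact Nat.Coprime.pow_left _ ((Nat.coprime_primes Nat.prime_two hrp.out).2 hr2.symm)
  set δ0 := LinearMap.det ((resHom W1 ⟨P1, hpres hgF _ hP1I⟩ : (Module.End ℂ W1)ˣ) : Module.End ℂ W1)
    with hδ0
  have hδ0r : δ0 ^ r = 1 := by
    rw [hδ0, ← map_pow, ← Units.val_pow_eq_pow_val, ← map_pow,
      show (⟨P1, hpres hgF _ hP1I⟩ : presUnits W1) ^ r = 1 from Subtype.ext hP1r, map_one,
      Units.val_one, map_one]
  have hδ00 : δ0 ≠ 0 := fun h => by simp [h, hrp.out.ne_zero] at hδ0r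
  obtain ⟨u, -, hu⟩ := Nat.exists_mul_mod_eq_one_of_coprime hdr hrp.out.one_lt
  have hω0 : δ0⁻¹ ^ u ≠ 0 := pow_ne_zero _ (inv_ne_zero hδ00)
  set P := scl (δ0⁻¹ ^ u) hω0 * P1 with hPdef
  have hPI : Impl ρ F g P := by rw [hPdef, coe_scl_mul]; exact impl_smul _ hP1I
  have hPr : P ^ r = 1 := Units.ext <| by
    rw [hPdef, (scl_comm _ _ _).mul_pow, hP1r, mul_one, scl, ← map_pow]
    have : (δ0⁻¹ ^ u) ^ r = 1 := by rw [pow_right_comm, inv_pow, hδ0r, inv_one, one_pow]
    simp only [MonoidHom.coe_coe, Units.coe_map, Units.val_pow_eq_pow_val, Units.val_mk0, this, map_one, Units.val_one]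
  set P' := resHom W1 ⟨P, hpres hgF _ hPI⟩ with hP'
  have hP'det : LinearMap.det (P' : Module.End ℂ W1) = 1 := by
    rw [hP', show (⟨P, hpres hgF _ hPI⟩ : presUnits W1) =
      ⟨scl (δ0⁻¹ ^ u) hω0, scl_mem W1 _ _⟩ * ⟨P1, hpres hgF _ hP1I⟩ from rfl, res_scl_mul,
      LinearMap.det_smul, ← hδ0, ← pow_mul, ← hd, mul_comm u d]
    have h1 : δ0⁻¹ ^ (d * u) = δ0⁻¹ := by
      conv_rhs => rw [← pow_one δ0⁻¹]
      rw [← Nat.mod_add_div (d * u) r, hu, pow_add, pow_mul δ0⁻¹ r, inv_pow δ0 r, hδ0r, inv_one,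
        one_pow, mul_one]
    rw [h1, inv_mul_cancel₀ hδ00]
  have hP'r : P' ^ r = 1 := by
    rw [hP', ← map_pow, show (⟨P, hpres hgF _ hPI⟩ : presUnits W1) ^ r = 1 from Subtype.ext hPr,
      map_one]
  -- commutation with implementers
  have hUP : ∀ x ∈ S, ∀ U : (Module.End ℂ W)ˣ, Impl ρ F x U → ∀ a : ℕ,
      (∀ f ∈ F, conjBy E (x * g * x⁻¹) f = conjBy E (g ^ a) f) → U * P = P ^ a * U := by
    intro x hx U hU a ha
    have hIa : Impl ρ F (g ^ a) ((P ^ a : (Module.End ℂ W)ˣ) : Module.End ℂ W) := by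
      rw [Units.val_pow_eq_pow_val]; exact Ctx.impl_pow c hgF hPI a
    obtain ⟨κ, hκ0, hκ⟩ := c.exists_unit_scalar hF (hgF.pow a) hIa (V := U * P * U⁻¹)
      (impl_congr ha (by
        rw [Units.val_mul, Units.val_mul]
        exact impl_mul (hSF x hx).inv (impl_mul hgF hU hPI) (impl_inv (hSF x hx) hU)))
    have e : U * P * U⁻¹ = scl κ hκ0 * P ^ a := Units.ext (by rw [coe_scl_mul]; exact hκ)
    have hκr : κ ^ r = 1 := by
      have h1 : (U * P * U⁻¹) ^ r = 1 := by rw [conj_pow, hPr, mul_one, mul_inv_cancel]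
      rw [e, (scl_comm _ _ _).mul_pow, ← pow_mul, mul_comm a r, pow_mul, hPr, one_pow, mul_one, scl,
        ← map_pow] at h1
      refine smul_right_cancel_unit (1 : (Module.End ℂ W)ˣ) ?_
      simpa [Algebra.algebraMap_eq_smul_one, smul_pow] using congrArg Units.val h1
    have hκd : κ ^ d = 1 := by
      have hmem : U ∈ presUnits W1 := hpres (hSF x hx) U hU
      have e' : (⟨U, hmem⟩ * ⟨P, hpres hgF _ hPI⟩ * ⟨U, hmem⟩⁻¹ : presUnits W1) =
          ⟨scl κ hκ0, scl_mem W1 _ _⟩ * ⟨P, hpres hgF _ hPI⟩ ^ a := Subtype.ext e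
      have h := congrArg (fun V => LinearMap.det
        ((resHom W1 V : (Module.End ℂ W1)ˣ) : Module.End ℂ W1)) e'
      rw [res_scl_mul, LinearMap.det_smul, map_mul (resHom W1), map_mul (resHom W1), map_inv,
        map_pow (resHom W1), ← hP', Units.val_pow_eq_pow_val, map_pow, hP'det, one_pow, mul_one,
        ← hd, Units.val_mul, Units.val_mul, map_mul, map_mul, hP'det, mul_one, ← map_mul,
        ← Units.val_mul, mul_inv_cancel, Units.val_one, map_one] at h
      exact h.symm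
    have hκ1 : κ = 1 := by
      have := pow_gcd_eq_one.2 ⟨hκd, hκr⟩
      rwa [hdr.gcd_eq_one, pow_one] at this
    have e2 : U * P * U⁻¹ = P ^ a := Units.ext (by rw [hκ, hκ1, one_smul])
    exact mul_inv_eq_iff_eq_mul.1 e2
  -- the kernel of the action of `S` on `⟨g⟩`
  have hmod : ∀ a b : ℕ, (∀ f ∈ F, conjBy E (g ^ a) f = conjBy E (g ^ b) f) → (a : ZMod r) = b := by
    intro a b h
    rw [ZMod.natCast_eq_natCast_iff]
    obtain ⟨k, hk⟩ : ∃ k, b + k ≡ 0 [MOD r] := ⟨b * r - b, by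
      rw [Nat.modEq_zero_iff_dvd, Nat.add_sub_cancel' (Nat.le_mul_of_pos_right b hrp.out.pos)]
      exact dvd_mul_left r b⟩
    refine Nat.ModEq.add_right_cancel' k (Nat.ModEq.trans ?_ hk.symm)
    rw [Nat.modEq_zero_iff_dvd]
    refine hdvd _ fun f hf => ?_
    rw [pow_add, conjBy_mul, h _ (hgF.pow k f hf), ← conjBy_mul, ← pow_add, hper _ 0 hk f hf,
      pow_zero, conjBy_one]
  let φ0 : S →* ZMod r :=
    { toFun := fun x => (ea x x.2 : ZMod r)
      map_one' := by
        rw [← Nat.cast_one]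
        refine hmod _ _ fun f hf => ?_
        rw [pow_one, ← hea _ (Subtype.mem 1) f hf, OneMemClass.coe_one]
        simp
      map_mul' := fun x y => by
        rw [← Nat.cast_mul]
        refine hmod _ _ fun f hf => ?_
        have hx' := hea x x.2
        have hy' := hea y y.2
        have hxs : Stab F ((x : G)⁻¹) := (hSF x x.2).inv
        rw [← hea _ (x * y).2 f hf, pow_mul,
          ← conj_pow_congr (hgF.pow _) hx' (ea y y.2) f hf, Subgroup.coe_mul,
          show (x : G) * y * g * ((x : G) * y)⁻¹ = (x : G) * ((y : G) * g * (y : G)⁻¹) * (x : G)⁻¹ by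
            group,
          conjBy_mul, conjBy_mul, hy' _ (hxs f hf), conj_pow, conjBy_mul, conjBy_mul] }
  let φ : S →* (ZMod r)ˣ := φ0.toHomUnits
  set S1 : Subgroup G := φ.ker.map S.subtype with hS1
  have hS1le : S1 ≤ S := Subgroup.map_subtype_le _
  have hS1c : ∀ x ∈ S1, ∀ f ∈ F, conjBy E (x * g * x⁻¹) f = conjBy E (g ^ 1) f := by
    rintro _ ⟨x, hx, rfl⟩ f hf
    show conjBy E ((x : G) * g * (x : G)⁻¹) f = _
    rw [hea x x.2 f hf]
    refine hper _ _ ?_ f hf
    have h : (ea x x.2 : ZMod r) = ((1 : ℕ) : ZMod r) := by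
      rw [Nat.cast_one]; exact congrArg Units.val (MonoidHom.mem_ker.1 hx)
    exact (ZMod.natCast_eq_natCast_iff _ _ _).1 h
  obtain ⟨gen, hgen⟩ := IsCyclic.exists_generator (α := φ.range)
  obtain ⟨t, ht⟩ := gen.2
  have hgenS : ∀ x ∈ S, ∃ i : ℕ, ∃ y ∈ S1, x = y * (t : G) ^ i := by
    intro x hx
    obtain ⟨i, hi⟩ := ((isOfFinOrder_of_finite gen).mem_powers_iff_mem_zpowers.2
      (hgen ⟨φ ⟨x, hx⟩, ⟨x, hx⟩, rfl⟩))
    refine ⟨i, x * ((t : G) ^ i)⁻¹, ⟨⟨x, hx⟩ * (t ^ i)⁻¹, ?_, by simp⟩, by rw [inv_mul_cancel_right]⟩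
    have hi' := congrArg Subtype.val hi
    simp only [SubmonoidClass.coe_pow] at hi'
    rw [SetLike.mem_coe, MonoidHom.mem_ker, map_mul, map_inv, map_pow, ht, hi']
    exact mul_inv_cancel _
  have hnS : ∀ x ∈ S1, (t : G) * x * (t : G)⁻¹ ∈ S1 := by
    rintro _ ⟨x, hx, rfl⟩
    exact ⟨t * x * t⁻¹, (MonoidHom.normal_ker φ).conj_mem x hx t, by simp⟩
  -- the eigenspaces
  obtain ⟨ζ, hζ⟩ : ∃ ζ : ℂ, IsPrimitiveRoot ζ r := ⟨_, Complex.isPrimitiveRoot_exp r hrp.out.ne_zero⟩
  have hS12 : IsPGroup 2 S1 := hS2.to_le hS1le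
  have hS1F : ∀ x : S1, Stab F (x : G) := fun x => hSF _ (hS1le x.2)
  have hexU : ∀ x : S1, ∃ U : (Module.End ℂ W)ˣ, Impl ρ F (x : G) U := fun x => by
    obtain ⟨U, hU, -⟩ := c.exists_impl hF (hS1F x)
    exact ⟨U, hU⟩
  choose U hU using hexU
  have hγ : ∀ x : F, ∃ e : F,
      ρ1 x = ρ1 e⁻¹ * ρ1 ⟨conjBy E g e, hgF e e.2⟩ ∨
        ρ1 x = -(ρ1 e⁻¹ * ρ1 ⟨conjBy E g e, hgF e e.2⟩) := by
    intro x
    obtain ⟨e, he, h⟩ := exists_commutator_eq c hF hrodd hgF hgr hfix x x.2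
    refine ⟨⟨e, he⟩, h.imp (fun h => ?_) fun h => ?_⟩
    · refine LinearMap.ext fun w => Subtype.ext ?_
      rw [hρ1, h]; rfl
    · refine LinearMap.ext fun w => Subtype.ext ?_
      rw [hρ1, h]; rfl
  have hPρ : ∀ f : F, (P' : Module.End ℂ W1) * ρ1 f = ρ1 ⟨conjBy E g f, hgF f f.2⟩ * P' := by
    intro f
    refine LinearMap.ext fun w => Subtype.ext ?_
    have := congrArg (fun X : Module.End ℂ W => X (w : W)) (hPI.2 f f.2)
    exact this
  have hcore : ∀ (T : S1 →* (Module.End ℂ W)ˣ) (hT : ∀ x : S1, Impl ρ F x (T x)),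
      ∃ T' : S1 →* (Module.End ℂ W1)ˣ,
        (∀ x, T' x = resHom W1 ⟨T x, hpres (hS1F x) _ (hT x)⟩) ∧ ∀ x, Commute (T' x) P' := by
    intro T hT
    refine ⟨(resHom W1).comp (T.codRestrict (presUnits W1) fun x => hpres (hS1F x) _ (hT x)),
      fun x => rfl, fun x => ?_⟩
    have h := hUP _ (hS1le x.2) (T x) (hT x) 1 (hS1c x x.2)
    rw [pow_one] at h
    show resHom W1 _ * resHom W1 _ = resHom W1 _ * resHom W1 _
    rw [← map_mul, ← map_mul]
    exact congrArg _ (Subtype.ext h)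
  have hgal : ∀ (T' : S1 →* (Module.End ℂ W1)ˣ) (hT' : ∀ x, Commute (T' x) P')
      (_ : ∀ x f, (T' x : Module.End ℂ W1) * ρ1 f = ρ1 ⟨conjBy E (x : G) f, hS1F x f f.2⟩ * T' x),
      LinearMap.trace ℂ W1 (P' : Module.End ℂ W1) *
        conj (LinearMap.trace ℂ W1 (P' : Module.End ℂ W1)) = 1 ∧
      ∀ (x : S1) (μ : ℂ), μ ^ r = 1 → μ ≠ 1 →
        (eigenRep T' P' (fun y => congrArg Units.val (hT' y).eq) μ).character x = (r : ℂ)⁻¹ *
          (LinearMap.trace ℂ W1 (T' x : Module.End ℂ W1) -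
            LinearMap.trace ℂ W1 ((T' x : Module.End ℂ W1) * (P' : Module.End ℂ W1))) := by
    intro T' hT' hTρ
    obtain ⟨habs, -, hj⟩ := trace_galois ρ1 hF2 hS12 (r := r) hr2 T' P' hP'r hP'det hT'
      (fun x f => ⟨conjBy E (x : G) f, hS1F x f f.2⟩) hTρ (fun f => ⟨conjBy E g f, hgF f f.2⟩) hPρ
      htrQ hγ
    refine ⟨habs, fun x μ hμ hμ1 => ?_⟩
    rw [character_eigenRep T' _ _ hrp.out.pos (by rw [← Units.val_pow_eq_pow_val, hP'r, Units.val_one]) hμ]
    congr 1
    obtain ⟨n, hn⟩ := Nat.exists_eq_add_of_le' hrp.out.pos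
    have hsum := sum_pow_eq_zero (μ := μ⁻¹) (r := r) (by rw [inv_pow, hμ, inv_one])
      (fun h => hμ1 (inv_eq_one.1 h))
    rw [hn, Finset.sum_range_succ'] at hsum ⊢
    rw [pow_zero, pow_zero, one_mul, mul_one,
      Finset.sum_congr rfl fun i hi => by
        rw [hj x (i + 1) (Nat.not_dvd_of_pos_of_lt (by omega)
          (by have := Finset.mem_range.1 hi; omega))], ← Finset.sum_mul]
    rw [pow_zero] at hsum
    linear_combination (LinearMap.trace ℂ W1 ((T' x : Module.End ℂ W1) * (P' : Module.End ℂ W1))) * hsum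
  -- the dimension of an eigenspace is odd
  have hP'c : ∀ x : S1, Commute ((1 : S1 →* (Module.End ℂ W1)ˣ) x) P' := fun x => Commute.one_left _
  have hM : ∀ μ : ℂ, μ ^ r = 1 → μ ≠ 1 →
      Odd (Module.finrank ℂ (Module.End.eigenspace (P' : Module.End ℂ W1) μ)) ∧
      (Module.finrank ℂ (Module.End.eigenspace (P' : Module.End ℂ W1) μ) : ℂ) =
        (r : ℂ)⁻¹ * ((d : ℂ) - LinearMap.trace ℂ W1 (P' : Module.End ℂ W1)) := by
    -- the trivial homomorphism on the trivial subgroup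
    intro μ hμ hμ1
    obtain ⟨habs, -, hj⟩ := trace_galois ρ1 hF2 (S := (⊥ : Subgroup S1))
      (hS12.to_subgroup ⊥) (r := r) hr2 1 P' hP'r hP'det (fun x => Commute.one_left _)
      (fun _ f => f) (fun x f => by simp) (fun f => ⟨conjBy E g f, hgF f f.2⟩) hPρ htrQ hγ
    have hc1 : ∀ x, (((1 : (⊥ : Subgroup S1) →* (Module.End ℂ W1)ˣ) x : (Module.End ℂ W1)ˣ) :
        Module.End ℂ W1) * (P' : Module.End ℂ W1) = (P' : Module.End ℂ W1) *
        ((1 : (⊥ : Subgroup S1) →* (Module.End ℂ W1)ˣ) x : (Module.End ℂ W1)ˣ) := fun x => by simp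
    have hchar := character_eigenRep (1 : (⊥ : Subgroup S1) →* (Module.End ℂ W1)ˣ) _ hc1
      hrp.out.pos (by rw [← Units.val_pow_eq_pow_val, hP'r, Units.val_one]) hμ 1
    rw [Representation.char_one] at hchar
    have hval : (Module.finrank ℂ (Module.End.eigenspace (P' : Module.End ℂ W1) μ) : ℂ) =
        (r : ℂ)⁻¹ * ((d : ℂ) - LinearMap.trace ℂ W1 (P' : Module.End ℂ W1)) := by
      rw [hchar]
      congr 1
      obtain ⟨n, hn⟩ := Nat.exists_eq_add_of_le' hrp.out.pos
      have hsum := sum_pow_eq_zero (μ := μ⁻¹) (r := r) (by rw [inv_pow, hμ, inv_one])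
        (fun h => hμ1 (inv_eq_one.1 h))
      rw [hn, Finset.sum_range_succ'] at hsum ⊢
      rw [pow_zero, pow_zero, one_mul, mul_one,
        Finset.sum_congr rfl fun i hi => by
          rw [hj 1 (i + 1) (Nat.not_dvd_of_pos_of_lt (by omega)
            (by have := Finset.mem_range.1 hi; omega))], ← Finset.sum_mul]
      simp only [MonoidHom.one_apply, Units.val_one, one_mul, LinearMap.trace_one]
      rw [pow_zero] at hsum
      linear_combination (LinearMap.trace ℂ W1 (P' : Module.End ℂ W1)) * hsum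
    refine ⟨?_, hval⟩
    set M := Module.finrank ℂ (Module.End.eigenspace (P' : Module.End ℂ W1) μ)
    have ht : LinearMap.trace ℂ W1 (P' : Module.End ℂ W1) = ((d : ℤ) - r * M : ℤ) := by
      push_cast
      rw [hval]
      field_simp [hrp.out.ne_zero]
      ring
    rw [ht, map_intCast] at habs
    have h1 : ((d : ℤ) - r * M) * ((d : ℤ) - r * M) = 1 := by exact_mod_cast habs
    have hdeven : Even d := by
      classical
      haveI := Fintype.ofFinite F
      -- `2 d² = |F|` and `F` is not central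
      have h := Chars.inner_self_irr ρ1 (G := F)
      rw [Chars.inner_def] at h
      have hsum : ∑ f : F, ρ1.character f * conj (ρ1.character f) = (2 : ℂ) * (d : ℂ) * d := by
        rw [← Finset.sum_subset (Finset.subset_univ ({1, zF} : Finset F)) fun f _ hf => by
          simp only [Finset.mem_insert, Finset.mem_singleton, not_or] at hf
          rw [show ρ1.character f = 0 from htr0 f (fun h => hf.1 (Subtype.ext h))
            (fun h => hf.2 (Subtype.ext h)), zero_mul],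
          Finset.sum_pair hzF1.symm, Representation.char_one, Representation.character, hρ1z,
          map_neg, LinearMap.trace_one, map_natCast, map_neg, map_natCast]
        ring
      rw [hsum] at h
      have hN0 : (Nat.card F : ℂ) ≠ 0 := Chars.card_ne_zero F
      have hcard : (Nat.card F : ℂ) = ((2 * d * d : ℕ) : ℂ) := by
        rw [inv_mul_eq_iff_eq_mul₀ hN0, mul_one] at h
        push_cast
        exact h.symm
      rcases Nat.eq_zero_or_pos l with h0 | h0
      · exfalso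
        rw [h0, pow_zero, ← hd] at hl
        rw [hl] at hcard
        obtain ⟨a, haF, ha1, haz⟩ := hFZ
        have h3 : ({1, zF, ⟨a, haF⟩} : Finset F).card ≤ Nat.card F := by
          rw [Nat.card_eq_fintype_card]; exact Finset.card_le_univ _
        rw [Finset.card_insert_of_notMem (by
            simp only [Finset.mem_insert, Finset.mem_singleton, not_or]
            exact ⟨hzF1.symm, fun h => ha1 (congrArg Subtype.val h).symm⟩),
          Finset.card_pair (fun h => haz (congrArg Subtype.val h).symm),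
          Nat.cast_inj.1 hcard] at h3
        omega
      · rw [hd, hl]; exact Nat.even_pow.2 ⟨even_two, h0.ne'⟩
    have hodd : Odd ((d : ℤ) - r * M) := by
      rcases Int.eq_one_or_neg_one_of_mul_eq_one' h1 with ⟨h, -⟩ | ⟨h, -⟩ <;> rw [h]
      exacts [odd_one, ⟨-1, rfl⟩]
    rw [Int.odd_sub', Int.even_coe_nat, ← Nat.cast_mul, Int.odd_coe_nat] at hodd
    exact (Nat.odd_mul.1 (hodd.2 hdeven)).2
  -- normalisation at the eigenvalue `ζ`
  have hζr : ζ ^ r = 1 := hζ.pow_eq_one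
  have hζ1 : ζ ≠ 1 := hζ.ne_one hrp.out.one_lt
  set Wζ := Module.End.eigenspace (P' : Module.End ℂ W1) ζ
  set M := Module.finrank ℂ Wζ with hMdef
  have hModd : Odd M := (hM ζ hζr hζ1).1
  let Cn : Subgroup (presUnits W1) :=
    { carrier := {V | Commute (resHom W1 V) P'}
      one_mem' := by simp
      mul_mem' := fun {A B} hA hB => by
        show Commute (resHom W1 (A * B)) P'
        rw [map_mul]; exact hA.mul_left hB
      inv_mem' := fun {A} hA => by
        show Commute (resHom W1 A⁻¹) P'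
        rw [map_inv]; exact hA.inv_left }
  let R0 := eigenRep ((resHom W1).comp Cn.subtype) (P' : Module.End ℂ W1)
    (fun V => congrArg Units.val V.2.eq) ζ
  let δ : Cn →* ℂˣ := detHom R0
  have hmemC : ∀ x : S1, ∀ V : (Module.End ℂ W)ˣ, ∀ hV : Impl ρ F (x : G) V,
      (⟨V, hpres (hS1F x) _ hV⟩ : presUnits W1) ∈ Cn := fun x V hV => by
    have h := hUP _ (hS1le x.2) V hV 1 (hS1c x x.2)
    rw [pow_one] at h
    show resHom W1 _ * resHom W1 _ = resHom W1 _ * resHom W1 _
    rw [← map_mul, ← map_mul]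
    exact congrArg _ (Subtype.ext h)
  have hsclC : ∀ (κ : ℂ) (h : κ ≠ 0), (⟨scl κ h, scl_mem W1 κ h⟩ : presUnits W1) ∈ Cn := by
    intro κ h
    show resHom W1 _ * resHom W1 _ = resHom W1 _ * resHom W1 _
    rw [← map_mul, ← map_mul]
    exact congrArg _ (Subtype.ext (scl_comm κ h _).eq)
  have hδscl : ∀ (κ : ℂ) (h : κ ≠ 0),
      ((δ ⟨_, hsclC κ h⟩ : ℂˣ) : ℂ) = κ ^ M := by
    intro κ h
    rw [coe_detHom]
    have : R0 ⟨_, hsclC κ h⟩ = κ • (1 : Module.End ℂ Wζ) := by
      refine LinearMap.ext fun v => Subtype.ext (Subtype.ext ?_)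
      show ((scl κ h : (Module.End ℂ W)ˣ) : Module.End ℂ W) ((v : W1) : W) = _
      simp [scl, Algebra.algebraMap_eq_smul_one]
    rw [this, LinearMap.det_smul, map_one, mul_one]
  -- implementers with normalised determinant
  have hnorm : ∀ x : S1, ∃ V : (Module.End ℂ W)ˣ, ∃ hV : Impl ρ F (x : G) V,
      δ ⟨_, hmemC x V hV⟩ = 1 := by
    intro x
    set D : ℂ := ((δ ⟨_, hmemC x _ (hU x)⟩ : ℂˣ) : ℂ) with hD
    have hD0 : D ≠ 0 := Units.ne_zero _
    obtain ⟨κ, hκ⟩ := IsAlgClosed.exists_pow_nat_eq D⁻¹ hModd.pos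
    have hκ0 : κ ≠ 0 := fun h => inv_ne_zero hD0 (by rw [← hκ, h, zero_pow hModd.pos.ne'])
    have hV : Impl ρ F (x : G) ((scl κ hκ0 * U x : (Module.End ℂ W)ˣ) : Module.End ℂ W) := by
      rw [coe_scl_mul]; exact impl_smul _ (hU x)
    refine ⟨_, hV, Units.ext ?_⟩
    rw [show (⟨_, hmemC x _ hV⟩ : Cn) = ⟨_, hsclC κ hκ0⟩ * ⟨_, hmemC x _ (hU x)⟩ from rfl, map_mul,
      Units.val_mul, hδscl, hκ, ← hD, inv_mul_cancel₀ hD0, Units.val_one]
  choose V hV hVδ using hnorm
  have hcop : (Nat.card S1).Coprime M := by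
    obtain ⟨k, hk⟩ := IsPGroup.iff_card.1 hS12
    rw [hk]
    exact Nat.Coprime.pow_left _ (Nat.coprime_two_left.2 hModd)
  obtain ⟨T0, hT0⟩ := c.lifts_of_scalars hcop V hV fun x y => by
    obtain ⟨κ, hκ0, hκ⟩ := c.exists_unit_scalar hF (hS1F (x * y)) (hV (x * y)) (V := V x * V y)
      (by rw [Units.val_mul]; exact impl_mul (hS1F y) (hV x) (hV y))
    refine ⟨κ, ?_, by rw [← Units.val_mul]; exact hκ⟩
    have e : (⟨_, hmemC x _ (hV x)⟩ * ⟨_, hmemC y _ (hV y)⟩ : Cn) =
        ⟨_, hsclC κ hκ0⟩ * ⟨_, hmemC (x * y) _ (hV (x * y))⟩ :=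
      Subtype.ext (Subtype.ext (Units.ext (by
        simp only [Subgroup.coe_mul]
        rw [coe_scl_mul]; exact hκ)))
    have h := congrArg (fun w => ((δ w : ℂˣ) : ℂ)) e
    simp only [map_mul, hVδ, one_mul, mul_one, Units.val_one] at h
    rw [hδscl] at h
    exact h.symm
  let T0C : S1 →* Cn :=
    MonoidHom.mk' (fun x => ⟨_, hmemC x _ (hT0 x)⟩) fun x y => Subtype.ext (Subtype.ext (map_mul T0 x y))
  let D : S1 →* ℂˣ := δ.comp T0C
  obtain ⟨a, b, hab⟩ : ∃ a b : ℤ, (Nat.card S1 : ℤ) * a + (M : ℤ) * b = 1 :=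
    ⟨_, _, (Nat.gcd_eq_gcd_ab (Nat.card S1) M).symm.trans (by rw [hcop]; rfl)⟩
  let sclHom : ℂˣ →* (Module.End ℂ W)ˣ := Units.map (algebraMap ℂ (Module.End ℂ W)).toMonoidHom
  have hsclHom : ∀ u : ℂˣ, sclHom u = scl (u : ℂ) u.ne_zero := fun u => by
    simp [sclHom, scl, Units.mk0]
  let ν : S1 →* ℂˣ := (zpowGroupHom (-b)).comp D
  obtain ⟨T, hT, hTe⟩ : ∃ T : S1 →* (Module.End ℂ W)ˣ, (∀ x : S1, Impl ρ F x (T x)) ∧
      ∀ x, T x = scl ((ν x : ℂˣ) : ℂ) (ν x).ne_zero * T0 x := by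
    refine ⟨MonoidHom.mk' (fun x => scl ((ν x : ℂˣ) : ℂ) (ν x).ne_zero * T0 x) fun x y => ?_,
      fun x => ?_, fun x => rfl⟩
    · show scl _ _ * T0 (x * y) = _
      rw [← hsclHom, ← hsclHom, ← hsclHom, map_mul ν, map_mul sclHom, map_mul T0,
        mul_assoc (sclHom (ν x)), ← mul_assoc (sclHom (ν y)),
        (show Commute (sclHom (ν y)) (T0 x) by rw [hsclHom]; exact scl_comm _ _ _).eq]
      simp only [mul_assoc]
    · show Impl ρ F (x : G) ((scl _ _ * T0 x : (Module.End ℂ W)ˣ) : Module.End ℂ W)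
      rw [coe_scl_mul]; exact impl_smul _ (hT0 x)
  have hTδ : ∀ x : S1, δ ⟨_, hmemC x _ (hT x)⟩ = 1 := by
    intro x
    have e : (⟨_, hmemC x _ (hT x)⟩ : Cn) = ⟨_, hsclC _ (ν x).ne_zero⟩ * T0C x :=
      Subtype.ext (Subtype.ext (hTe x))
    refine Units.ext ?_
    rw [e, map_mul, Units.val_mul, hδscl, ← Units.val_pow_eq_pow_val, ← Units.val_mul,
      show δ (T0C x) = D x from rfl, show ν x = D x ^ (-b) from rfl, ← zpow_natCast, ← zpow_mul,
      ← zpow_add_one, show -b * (M : ℤ) + 1 = (Nat.card S1 : ℤ) * a by linarith, zpow_mul,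
      zpow_natCast, ← map_pow, pow_card_eq_one', map_one, one_zpow]
  -- invariance
  obtain ⟨A, hA, -⟩ := c.exists_impl hF (hSF _ t.2)
  refine c.lifts_extend hF hSF hS1le t.2 hnS hgenS T hT hA fun x => ?_
  set y : S1 := ⟨_, hnS x x.2⟩ with hy
  have hB : Impl ρ F (x : G) ((A⁻¹ * T y * A : (Module.End ℂ W)ˣ) : Module.End ℂ W) := by
    rw [Units.val_mul, Units.val_mul]
    refine impl_congr (fun f hf => ?_)
      (impl_mul (hSF _ t.2) (impl_mul (hS1F y) (impl_inv (hSF _ t.2) hA) (hT y)) hA)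
    congr 2
    show (t : G)⁻¹ * ((t : G) * x * (t : G)⁻¹) * t = x
    group
  obtain ⟨κ, hκ0, hκ⟩ := c.exists_unit_scalar hF (hS1F x) (hT x) hB
  have eB : A⁻¹ * T y * A = scl κ hκ0 * T x := Units.ext (by rw [coe_scl_mul]; exact hκ)
  -- `κ` has order dividing `|S1|`
  have hκS : κ ^ Nat.card S1 = 1 := by
    have h1 : (A⁻¹ * T y * A) ^ Nat.card S1 = 1 := by
      have h2 := conj_pow (i := Nat.card S1) (a := A⁻¹) (b := T y)
      rw [inv_inv] at h2
      rw [h2, ← map_pow, pow_card_eq_one', map_one, mul_one, inv_mul_cancel]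
    rw [eB, (scl_comm _ _ _).mul_pow, ← map_pow T, pow_card_eq_one', map_one, mul_one, scl,
      ← map_pow] at h1
    refine smul_right_cancel_unit (1 : (Module.End ℂ W)ˣ) ?_
    simpa [Algebra.algebraMap_eq_smul_one, smul_pow] using congrArg Units.val h1
  -- the determinant
  have hκM : κ ^ M = 1 := by
    have hbc : δ ⟨_, hmemC x _ hB⟩ = δ ⟨_, hsclC κ hκ0⟩ := by
      rw [show (⟨_, hmemC x _ hB⟩ : Cn) = ⟨_, hsclC κ hκ0⟩ * ⟨_, hmemC x _ (hT x)⟩ from
        Subtype.ext (Subtype.ext eB), map_mul, hTδ, mul_one]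
    rw [← hδscl κ hκ0, ← hbc]
    -- move to the eigenvalue to which `A` sends `ζ`
    set A' := resHom W1 ⟨A, hpres (hSF _ t.2) A hA⟩ with hA'
    set a' := ea t t.2 with ha'
    have hA'P : A' * P' = P' ^ a' * A' := by
      rw [hA', hP', ← map_mul, ← map_pow, ← map_mul]
      exact congrArg _ (Subtype.ext (hUP _ t.2 A hA a' (hea t t.2)))
    obtain ⟨b', -, hb'⟩ : ∃ b' < r, a' * b' % r = 1 := by
      refine (Nat.exists_mul_mod_eq_one_of_coprime ?_ hrp.out.one_lt)
      refine ((hrp.out.coprime_iff_not_dvd).2 fun h => ?_).symm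
      have h0 : (a' : ZMod r) = 0 := (ZMod.natCast_eq_zero_iff _ _).2 h
      exact (φ t).ne_zero h0
    set μ := ζ ^ b' with hμdef
    have hμr : μ ^ r = 1 := by rw [hμdef, pow_right_comm, hζr, one_pow]
    have hμ1 : μ ≠ 1 := fun h => by
      obtain ⟨q, hq⟩ := hζ.dvd_of_pow_eq_one _ h
      rw [hq, mul_left_comm, Nat.mul_mod_right] at hb'
      exact zero_ne_one hb'
    have hpow : ∀ j : ℕ, P' ^ (j % r) = P' ^ j := fun j => by
      conv_rhs => rw [← Nat.mod_add_div j r, pow_add, pow_mul, hP'r, one_pow, mul_one]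
    -- `A'` maps the `ζ`-eigenspace onto the `μ`-eigenspace
    have hAmap : ∀ v, v ∈ Wζ → (A' : Module.End ℂ W1) v ∈
        Module.End.eigenspace (P' : Module.End ℂ W1) μ := by
      intro v hv
      rw [Module.End.mem_eigenspace_iff] at hv ⊢
      have hvn : ∀ n : ℕ, ((P' : Module.End ℂ W1) ^ n) v = ζ ^ n • v := by
        intro n
        induction n with
        | zero => simp
        | succ n ih => rw [pow_succ, Module.End.mul_apply, hv, map_smul, ih, smul_smul, pow_succ,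
            mul_comm]
      have h1 : P' * A' = A' * P' ^ b' := by
        have : ∀ n : ℕ, A' * P' ^ n = P' ^ (a' * n) * A' := by
          intro n
          induction n with
          | zero => simp
          | succ n ih =>
            rw [pow_succ, ← mul_assoc, ih, mul_assoc, hA'P, ← mul_assoc, ← pow_add, mul_add, mul_one]
        rw [this, ← hpow (a' * b'), hb', pow_one]
      calc (P' : Module.End ℂ W1) ((A' : Module.End ℂ W1) v)
          = ((A' * P' ^ b' : (Module.End ℂ W1)ˣ) : Module.End ℂ W1) v := by rw [← h1]; rfl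
        _ = μ • (A' : Module.End ℂ W1) v := by
            rw [Units.val_mul, Units.val_pow_eq_pow_val, Module.End.mul_apply, hvn, map_smul]
    have hAinj : Function.Injective ((A' : Module.End ℂ W1).restrict hAmap) := by
      intro v w h
      have h' : (A' : Module.End ℂ W1) (v : W1) = (A' : Module.End ℂ W1) (w : W1) :=
        congrArg Subtype.val h
      refine Subtype.ext ?_
      have h2 := congrArg (((A'⁻¹ : (Module.End ℂ W1)ˣ) : Module.End ℂ W1)) h'
      rwa [← Module.End.mul_apply, ← Module.End.mul_apply, Units.inv_mul, Module.End.one_apply,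
        Module.End.one_apply] at h2
    have hdim : Module.finrank ℂ Wζ =
        Module.finrank ℂ (Module.End.eigenspace (P' : Module.End ℂ W1) μ) := by
      have h1 := (hM ζ hζr hζ1).2
      have h2 := (hM μ hμr hμ1).2
      exact Nat.cast_injective (R := ℂ) (h1.trans h2.symm)
    let Aeq : Wζ ≃ₗ[ℂ] Module.End.eigenspace (P' : Module.End ℂ W1) μ :=
      LinearEquiv.ofBijective _ ⟨hAinj,
        (LinearMap.injective_iff_surjective_of_finrank_eq_finrank hdim).1 hAinj⟩
    obtain ⟨T', hT', hT'c⟩ := hcore T hT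
    have hT'ρ : ∀ x f, (T' x : Module.End ℂ W1) * ρ1 f =
        ρ1 ⟨conjBy E (x : G) f, hS1F x f f.2⟩ * T' x := by
      intro x f
      rw [hT']
      refine LinearMap.ext fun w => Subtype.ext ?_
      exact congrArg (fun X : Module.End ℂ W => X (w : W)) ((hT x).2 f f.2)
    obtain ⟨-, hchar⟩ := hgal T' hT'c hT'ρ
    obtain ⟨eqv⟩ := Chars.equiv_of_character_eq
      (eigenRep T' (P' : Module.End ℂ W1) (fun w => congrArg Units.val (hT'c w).eq) ζ)
      (eigenRep T' (P' : Module.End ℂ W1) (fun w => congrArg Units.val (hT'c w).eq) μ)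
      (funext fun w => by rw [hchar w ζ hζr hζ1, hchar w μ hμr hμ1])
    have hdet : ∀ w : S1, LinearMap.det
        (eigenRep T' (P' : Module.End ℂ W1) (fun w => congrArg Units.val (hT'c w).eq) μ w) =
        LinearMap.det
        (eigenRep T' (P' : Module.End ℂ W1) (fun w => congrArg Units.val (hT'c w).eq) ζ w) := fun w => by
      have h := congrArg (fun h : S1 →* ℂˣ => ((h w : ℂˣ) : ℂ)) (detHom_eq_of_equiv eqv)
      simpa only [coe_detHom] using h
    have hsame : ∀ w : S1, eigenRep T' (P' : Module.End ℂ W1)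
        (fun w => congrArg Units.val (hT'c w).eq) ζ w = R0 ⟨_, hmemC w _ (hT w)⟩ := fun w => by
      refine LinearMap.ext fun v => Subtype.ext ?_
      rw [coe_eigenRep, hT']
      rfl
    rw [coe_detHom]
    calc LinearMap.det (R0 ⟨_, hmemC x _ hB⟩)
        = LinearMap.det (eigenRep T' (P' : Module.End ℂ W1)
            (fun w => congrArg Units.val (hT'c w).eq) μ y) := by
          rw [← LinearMap.det_conj (R0 ⟨_, hmemC x _ hB⟩) Aeq]
          congr 1
          refine LinearMap.ext fun v => Subtype.ext ?_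
          rw [coe_eigenRep, hT']
          have hv : ((A' : Module.End ℂ W1) ((Aeq.symm v : Wζ) : W1)) = (v : W1) :=
            congrArg Subtype.val (Aeq.apply_symm_apply v)
          show (A' : Module.End ℂ W1) (((resHom W1 ⟨_, hpres (hS1F x) _ hB⟩ : (Module.End ℂ W1)ˣ) :
            Module.End ℂ W1) ((Aeq.symm v : Wζ) : W1)) = _
          have e2 : A' * resHom W1 ⟨_, hpres (hS1F x) _ hB⟩ =
              resHom W1 ⟨T y, hpres (hS1F y) _ (hT y)⟩ * A' := by
            rw [hA', ← map_mul, ← map_mul]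
            exact congrArg _ (Subtype.ext (by simp [mul_assoc]))
          rw [← Module.End.mul_apply, ← Units.val_mul, e2, Units.val_mul, Module.End.mul_apply, hv]
      _ = _ := by rw [hdet, hsame, ← coe_detHom]; exact congrArg Units.val (hTδ y)
  have hκ1 : κ = 1 := by
    have := pow_gcd_eq_one.2 ⟨hκS, hκM⟩
    rwa [hcop.gcd_eq_one, pow_one] at this
  have e1 : A⁻¹ * T y * A = T x := Units.ext (by rw [hκ, hκ1, one_smul])
  rw [← e1]; group

end CfsgLib.ExtraExt
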