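import Cfsg.Agent.Lib.PGroups.Extraspecial
import Cfsg.Agent.Lib.Base.Transport
import Cfsg.Agent.Lib.CharsMore.Intertwiners
import Cfsg.Agent.Lib.CharsMore.Extend

/-!
# Implementers of automorphisms on parts of an extraspecial group

`E` is a normal extraspecial `2`-subgroup with a faithful irreducible representation `ρ`. For a
subgroup `F` of `E` on which the commutator pairing is nondegenerate, an element normalising `F` is
implemented, uniquely up to a scalar, by an operator commuting with the centraliser of `F`.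
-/

set_option autoImplicit false
set_option linter.unusedSectionVars false

namespace CfsgLib.ExtraExt

open Cfsg CfsgLib.CharsMore

variable {G : Type*} [Group G] [Finite G] {E : Subgroup G} [E.Normal]
  {W : Type*} [AddCommGroup W] [Module ℂ W] [FiniteDimensional ℂ W]
  {ρ : Representation ℂ E W} {z : E}

/-- The standing hypotheses. -/
structure Ctx (ρ : Representation ℂ E W) (z : E) : Prop where
  ext : IsExtraspecial 2 E
  ne_one : z ≠ 1
  central : ∀ e : E, z * e = e * z
  sq : z * z = 1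
  comm : ∀ a b : E, a * b = b * a ∨ a * b = z * (b * a)
  radical : ∀ a : E, (∀ b : E, a * b = b * a) → a = 1 ∨ a = z
  rho_z : ρ z = -1
  irr : ρ.IsIrreducible

/-- The commutator pairing is nondegenerate on `F`. -/
def Nondeg (z : E) (F : Subgroup E) : Prop :=
  z ∈ F ∧ ∀ a ∈ F, (∀ b ∈ F, a * b = b * a) → a = 1 ∨ a = z

/-- `g` normalises `F`. -/
def Stab (F : Subgroup E) (g : G) : Prop := ∀ f ∈ F, conjBy E g f ∈ F

/-- `U` commutes with the centraliser of `F` and implements `g` on `F`. -/
def Impl (ρ : Representation ℂ E W) (F : Subgroup E) (g : G) (U : Module.End ℂ W) : Prop :=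
  (∀ c ∈ Subgroup.centralizer (F : Set E), U * ρ c = ρ c * U) ∧
    ∀ f ∈ F, U * ρ f = ρ (conjBy E g f) * U

/-- The action of `S` on `F` is implemented by a homomorphism. -/
def Lifts (ρ : Representation ℂ E W) (F : Subgroup E) (S : Subgroup G) : Prop :=
  ∃ T : S →* (Module.End ℂ W)ˣ, ∀ s : S, Impl ρ F s (T s)

theorem conjBy_mul (g h : G) (e : E) : conjBy E (g * h) e = conjBy E g (conjBy E h e) :=
  Subtype.ext (by simp [mul_assoc])

theorem conjBy_one (e : E) : conjBy E 1 e = e := Subtype.ext (by simp)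

theorem conjBy_inv_cancel (g : G) (e : E) : conjBy E g⁻¹ (conjBy E g e) = e := by
  rw [← conjBy_mul, inv_mul_cancel, conjBy_one]

theorem conjBy_cancel_inv (g : G) (e : E) : conjBy E g (conjBy E g⁻¹ e) = e := by
  rw [← conjBy_mul, mul_inv_cancel, conjBy_one]

theorem conjBy_injective (g : G) : Function.Injective (conjBy E g) :=
  Function.LeftInverse.injective (conjBy_inv_cancel g)

theorem Stab.inv {F : Subgroup E} {g : G} (h : Stab F g) : Stab F g⁻¹ := by
  intro f hf
  obtain ⟨⟨f', hf'⟩, he⟩ := Finite.surjective_of_injective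
    (f := fun x : F => (⟨conjBy E g x, h x x.2⟩ : F))
    (fun a b hab => Subtype.ext (conjBy_injective g (congrArg Subtype.val hab))) ⟨f, hf⟩
  have he' : conjBy E g f' = f := congrArg Subtype.val he
  rwa [← he', conjBy_inv_cancel]

theorem Stab.mul {F : Subgroup E} {g h : G} (hg : Stab F g) (hh : Stab F h) : Stab F (g * h) :=
  fun f hf => by rw [conjBy_mul]; exact hg _ (hh f hf)

theorem Stab.centralizer {F : Subgroup E} {g : G} (h : Stab F g) :
    Stab (Subgroup.centralizer (F : Set E)) g := by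
  intro c hc f hf
  have := congrArg (conjBy E g) (hc _ (h.inv f hf))
  rwa [map_mul, map_mul, conjBy_cancel_inv] at this

namespace Ctx

variable (c : Ctx ρ z)
include c

theorem conj_z (g : G) : conjBy E g z = z := by
  refine (c.radical _ fun b => ?_).resolve_left fun h => c.ne_one
    (conjBy_injective g (h.trans (map_one _).symm))
  rw [← conjBy_cancel_inv g b, ← map_mul, c.central, map_mul]

theorem nondeg_top : Nondeg z (⊤ : Subgroup E) :=
  ⟨Subgroup.mem_top _, fun a _ h => c.radical a fun b => h b (Subgroup.mem_top _)⟩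

theorem z_mem_centralizer (F : Subgroup E) : z ∈ Subgroup.centralizer (F : Set E) :=
  fun f _ => (c.central f).symm

theorem center_le {F : Subgroup E} (hz : z ∈ F) : Subgroup.center E ≤ F := fun x hx => by
  rcases c.radical x fun b => (Subgroup.mem_center_iff.1 hx b).symm with rfl | rfl
  exacts [one_mem F, hz]

theorem sup_centralizer {F : Subgroup E} (hF : Nondeg z F) :
    F ⊔ Subgroup.centralizer (F : Set E) = ⊤ := by
  haveI := Fact.mk Nat.prime_two
  have hn := PGroups.Extraspecial.normal_of_center_le c.ext (center_le_centralizer (F : Set E))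
  have h1 := PGroups.Extraspecial.card_mul_card_centralizer c.ext (c.center_le hF.1)
  have h2 := Base.card_sup_mul_card_inf F (Subgroup.centralizer (F : Set E))
  have hle : Nat.card ↥(F ⊓ Subgroup.centralizer (F : Set E)) ≤ 2 := by
    rw [← c.ext.2]
    refine Subgroup.card_le_of_le fun x hx => ?_
    rcases hF.2 x hx.1 fun b hb => (hx.2 b hb).symm with rfl | rfl
    · exact one_mem _
    · exact Subgroup.mem_center_iff.2 fun g => (c.central g).symm
  refine Subgroup.eq_top_of_le_card _ ?_
  have h3 := Nat.mul_le_mul_left (Nat.card ↥(F ⊔ Subgroup.centralizer (F : Set E))) hle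
  rw [h2, h1] at h3
  linarith
where
  center_le_centralizer (s : Set E) : Subgroup.center E ≤ Subgroup.centralizer s :=
    fun x hx g _ => Subgroup.mem_center_iff.1 hx g

theorem exists_factor {F : Subgroup E} (hF : Nondeg z F) (e : E) :
    ∃ f ∈ F, ∃ d ∈ Subgroup.centralizer (F : Set E), e = f * d := by
  haveI := Fact.mk Nat.prime_two
  haveI := PGroups.Extraspecial.normal_of_center_le c.ext (c.center_le (c.z_mem_centralizer F))
  have h : e ∈ ((F ⊔ Subgroup.centralizer (F : Set E) : Subgroup E) : Set E) := by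
    rw [c.sup_centralizer hF]; exact Subgroup.mem_top _
  rw [Subgroup.mul_normal] at h
  obtain ⟨f, hf, d, hd, rfl⟩ := h
  exact ⟨f, hf, d, hd, rfl⟩

/-- An operator commuting with `ρ F` and with `ρ` of the centraliser of `F` is a scalar. -/
theorem scalar_of_commute {F : Subgroup E} (hF : Nondeg z F) {X : Module.End ℂ W}
    (h1 : ∀ f ∈ F, X * ρ f = ρ f * X)
    (h2 : ∀ d ∈ Subgroup.centralizer (F : Set E), X * ρ d = ρ d * X) : ∃ r : ℂ, X = r • 1 := by
  haveI := c.irr
  refine schur_scalar ρ X fun e => ?_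
  obtain ⟨f, hf, d, hd, rfl⟩ := c.exists_factor hF e
  rw [map_mul, ← mul_assoc, h1 f hf, mul_assoc, h2 d hd, mul_assoc]

theorem nontrivial : Nontrivial W := by
  haveI := c.irr
  exact nontrivial_of_isIrreducible ρ

theorem trace_rho {e : E} (h1 : e ≠ 1) (hz : e ≠ z) :
    LinearMap.trace ℂ W (ρ e) = 0 := by
  obtain ⟨b, hb⟩ : ∃ b : E, ¬ e * b = b * e := by
    by_contra h
    push Not at h
    rcases c.radical e h with h | h
    exacts [h1 h, hz h]
  have hb' := ((c.comm e b).resolve_left hb)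
  have h : ρ e = -(ρ b * ρ e * ρ b⁻¹) := by
    calc ρ e = ρ (e * b * b⁻¹) := by rw [mul_inv_cancel_right]
      _ = ρ (z * (b * e * b⁻¹)) := by rw [hb', mul_assoc]
      _ = _ := by rw [map_mul, c.rho_z, map_mul, map_mul, neg_mul, one_mul]
  have h' := congrArg (LinearMap.trace ℂ W) h
  rw [map_neg, LinearMap.trace_mul_comm, ← mul_assoc, ← map_mul, inv_mul_cancel, map_one,
    one_mul] at h'
  exact CharZero.eq_neg_self_iff.1 h'

/-- Every element normalising a nondegenerate `F` has an implementer, made of the operators `ρ f`. -/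
theorem exists_impl {F : Subgroup E} (hF : Nondeg z F) {g : G} (hg : Stab F g) :
    ∃ U : (Module.End ℂ W)ˣ, Impl ρ F g U ∧ (∀ (P : Submodule ℂ W),
      (∀ f ∈ F, ∀ w ∈ P, ρ f w ∈ P) → ∀ w ∈ P, (U : Module.End ℂ W) w ∈ P) ∧
      ∀ X : Module.End ℂ W, (∀ f ∈ F, X * ρ f = ρ f * X) → X * U = U * X := by
  classical
  haveI := Fintype.ofFinite F
  haveI := c.nontrivial
  let A : F → Module.End ℂ W := fun x => ∑ f : F, ρ (conjBy E g f) * ρ x * ρ (f : E)⁻¹
  obtain ⟨x, hx⟩ : ∃ x, A x ≠ 0 := by
    by_contra hA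
    push Not at hA
    have h0 : ∑ x : F, LinearMap.trace ℂ W (A x * ρ (x : E)⁻¹) = 0 :=
      Finset.sum_eq_zero fun x _ => by rw [hA x, zero_mul, map_zero]
    simp only [A, Finset.sum_mul, map_sum] at h0
    rw [Finset.sum_comm] at h0
    have hterm : ∀ f : F, ∑ x : F, LinearMap.trace ℂ W
        (ρ (conjBy E g f) * ρ x * ρ (f : E)⁻¹ * ρ (x : E)⁻¹) =
        if ((f : E) = 1 ∨ (f : E) = z) then
          (Fintype.card F : ℂ) * (Module.finrank ℂ W : ℂ) else 0 := by
      intro f
      by_cases hf : (f : E) = 1 ∨ (f : E) = z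
      · rw [if_pos hf, Finset.sum_congr rfl fun x _ => ?_, Finset.sum_const, nsmul_eq_mul,
          Finset.card_univ]
        rcases hf with hf | hf
        · rw [hf, map_one (conjBy E g), inv_one, map_one, one_mul, mul_one, ← map_mul,
            mul_inv_cancel, map_one, LinearMap.trace_one]
        · rw [hf, c.conj_z, inv_eq_of_mul_eq_one_right c.sq, c.rho_z, neg_one_mul, mul_neg, mul_one,
            neg_neg, ← map_mul, mul_inv_cancel, map_one, LinearMap.trace_one]
      · rw [if_neg hf]
        push Not at hf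
        obtain ⟨b, hb, hfb⟩ : ∃ b ∈ F, ¬ (f : E) * b = b * f := by
          by_contra h
          push Not at h
          rcases hF.2 f f.2 h with h | h
          exacts [hf.1 h, hf.2 h]
        set S := ∑ x : F, LinearMap.trace ℂ W
          (ρ (conjBy E g f) * ρ x * ρ (f : E)⁻¹ * ρ (x : E)⁻¹) with hS
        have hneg : S = -S := by
          conv_lhs => rw [hS, ← Equiv.sum_comp (Equiv.mulRight (⟨b, hb⟩ : F))]
          rw [hS, ← Finset.sum_neg_distrib]
          refine Finset.sum_congr rfl fun x _ => ?_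
          have hb' : b * (f : E)⁻¹ * b⁻¹ = z * (f : E)⁻¹ := by
            rcases c.comm b (f : E)⁻¹ with h | h
            · exact absurd (by
                have := congrArg (fun y => (f : E) * y * f) h
                simpa [mul_assoc] using this) hfb
            · rw [h, mul_assoc, mul_inv_cancel_right]
          rw [← map_neg]
          congr 1
          simp only [Equiv.coe_mulRight, Subgroup.coe_mul, mul_assoc, ← map_mul]
          rw [mul_inv_rev, ← mul_assoc b, ← mul_assoc (b * _), hb', mul_assoc z,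
            ← mul_assoc (x : E), ← c.central, mul_assoc z, ← mul_assoc _ z, ← c.central, mul_assoc z,
            map_mul, c.rho_z, neg_one_mul]
        exact CharZero.eq_neg_self_iff.1 hneg
    rw [Finset.sum_congr rfl fun f _ => hterm f, ← Finset.sum_filter, Finset.sum_const,
      nsmul_eq_mul] at h0
    rcases mul_eq_zero.1 h0 with h | h
    · exact absurd (Nat.cast_eq_zero.1 h) (Finset.card_ne_zero_of_mem
        (Finset.mem_filter.2 ⟨Finset.mem_univ (1 : F), Or.inl rfl⟩))
    · rcases mul_eq_zero.1 h with h | h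
      · exact Fintype.card_ne_zero (Nat.cast_eq_zero.1 h)
      · exact Module.finrank_pos.ne' (Nat.cast_eq_zero.1 h)
  have hint : ∀ f ∈ F, A x * ρ f = ρ (conjBy E g f) * A x := by
    intro f hf
    simp only [A, Finset.sum_mul, Finset.mul_sum]
    rw [← Equiv.sum_comp (Equiv.mulLeft (⟨f, hf⟩ : F))]
    refine Finset.sum_congr rfl fun y _ => ?_
    simp only [Equiv.coe_mulLeft, Subgroup.coe_mul, mul_inv_rev, ← map_mul, mul_assoc,
      inv_mul_cancel, mul_one]
    rw [map_mul (conjBy E g), mul_assoc]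
  have hcomm : ∀ d ∈ Subgroup.centralizer (F : Set E), A x * ρ d = ρ d * A x := by
    intro d hd
    simp only [A, Finset.sum_mul, Finset.mul_sum]
    refine Finset.sum_congr rfl fun y _ => ?_
    rw [← map_mul, ← map_mul, ← map_mul, ← map_mul]
    congr 1
    have e1 : (y : E)⁻¹ * d = d * (y : E)⁻¹ := hd _ (inv_mem y.2)
    rw [mul_assoc _ _ d, e1, ← mul_assoc, mul_assoc _ _ d, hd _ x.2, ← mul_assoc,
      hd _ (hg _ y.2)]
    simp only [mul_assoc]
  -- the kernel is invariant under `ρ`
  have hker : LinearMap.ker (A x) = ⊥ := by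
    have hinv : ∀ e : E, ∀ w ∈ LinearMap.ker (A x), ρ e w ∈ LinearMap.ker (A x) := by
      intro e w hw
      obtain ⟨f, hf, d, hd, rfl⟩ := c.exists_factor hF e
      rw [LinearMap.mem_ker] at hw ⊢
      show (A x * ρ (f * d)) w = 0
      rw [map_mul, ← mul_assoc, hint f hf, mul_assoc, hcomm d hd, Module.End.mul_apply,
        Module.End.mul_apply, hw, map_zero, map_zero]
    refine (((Chars.isIrreducible_iff ρ).1 c.irr).2 _ hinv).resolve_right fun h => hx ?_
    exact LinearMap.ker_eq_top.1 h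
  have hU : IsUnit (A x) := LinearMap.isUnit_iff_ker_eq_bot _ |>.2 hker
  refine ⟨hU.unit, ⟨hcomm, hint⟩, fun P hP w hw => ?_, fun X hX => ?_⟩
  swap
  · show X * A x = A x * X
    simp only [A, Finset.sum_mul, Finset.mul_sum]
    refine Finset.sum_congr rfl fun y _ => ?_
    rw [← mul_assoc, ← mul_assoc, hX _ (hg _ y.2), mul_assoc _ X, hX _ x.2, ← mul_assoc,
      mul_assoc _ X, hX _ (inv_mem y.2), ← mul_assoc]
  show (A x) w ∈ P
  simp only [A, LinearMap.sum_apply, Module.End.mul_apply]
  exact Submodule.sum_mem _ fun y _ => hP _ (hg _ y.2) _ (hP _ x.2 _ (hP _ (inv_mem y.2) w hw))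

omit c in
theorem impl_mul {F : Subgroup E} {g h : G} {U V : Module.End ℂ W} (hh : Stab F h)
    (hU : Impl ρ F g U) (hV : Impl ρ F h V) : Impl ρ F (g * h) (U * V) :=
  ⟨fun d hd => by rw [mul_assoc, hV.1 d hd, ← mul_assoc, hU.1 d hd, mul_assoc],
    fun f hf => by rw [mul_assoc, hV.2 f hf, ← mul_assoc, hU.2 _ (hh f hf), mul_assoc, conjBy_mul]⟩

omit c in
theorem impl_one (F : Subgroup E) : Impl ρ F (1 : G) 1 :=
  ⟨fun d _ => by rw [one_mul, mul_one], fun f _ => by rw [one_mul, mul_one, conjBy_one]⟩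

omit c in
theorem impl_smul {F : Subgroup E} {g : G} {U : Module.End ℂ W} (r : ℂ) (hU : Impl ρ F g U) :
    Impl ρ F g (r • U) :=
  ⟨fun d hd => by rw [smul_mul_assoc, hU.1 d hd, mul_smul_comm],
    fun f hf => by rw [smul_mul_assoc, hU.2 f hf, mul_smul_comm]⟩

omit c in
theorem impl_congr {F : Subgroup E} {g h : G} {U : Module.End ℂ W}
    (he : ∀ f ∈ F, conjBy E g f = conjBy E h f) (hU : Impl ρ F g U) : Impl ρ F h U :=
  ⟨hU.1, fun f hf => by rw [hU.2 f hf, he f hf]⟩

omit c in
theorem impl_inv {F : Subgroup E} {g : G} {U : (Module.End ℂ W)ˣ} (hg : Stab F g)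
    (hU : Impl ρ F g U) : Impl ρ F g⁻¹ (U⁻¹ : (Module.End ℂ W)ˣ) := by
  refine ⟨fun d hd => ?_, fun f hf => ?_⟩
  · rw [Units.inv_mul_eq_iff_eq_mul, ← mul_assoc, hU.1 d hd, mul_assoc, Units.mul_inv, mul_one]
  · rw [Units.inv_mul_eq_iff_eq_mul, ← mul_assoc, hU.2 _ (hg.inv f hf), conjBy_cancel_inv,
      mul_assoc, Units.mul_inv, mul_one]

/-- Implementers are unique up to scalars. -/
theorem impl_unique {F : Subgroup E} (hF : Nondeg z F) {g : G} (hg : Stab F g)
    {U : (Module.End ℂ W)ˣ} {V : Module.End ℂ W} (hU : Impl ρ F g U) (hV : Impl ρ F g V) :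
    ∃ r : ℂ, V = r • (U : Module.End ℂ W) := by
  have h := impl_mul hg (impl_inv hg hU) hV
  rw [inv_mul_cancel] at h
  obtain ⟨r, hr⟩ := c.scalar_of_commute hF (X := (U⁻¹ : (Module.End ℂ W)ˣ) * V)
    (fun f hf => by rw [h.2 f hf, conjBy_one]) h.1
  refine ⟨r, ?_⟩
  calc V = (U : Module.End ℂ W) * ((U⁻¹ : (Module.End ℂ W)ˣ) * V) := by
        rw [← mul_assoc, Units.mul_inv, one_mul]
    _ = _ := by rw [hr, mul_smul_comm, mul_one]

theorem impl_preserves {F : Subgroup E} (hF : Nondeg z F) {g : G} (hg : Stab F g)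
    {V : Module.End ℂ W} (hV : Impl ρ F g V) {P : Submodule ℂ W}
    (hP : ∀ f ∈ F, ∀ w ∈ P, ρ f w ∈ P) {w : W} (hw : w ∈ P) : V w ∈ P := by
  obtain ⟨U, hU, hUP, -⟩ := c.exists_impl hF hg
  obtain ⟨r, rfl⟩ := c.impl_unique hF hg hU hV
  exact P.smul_mem r (hUP P hP w hw)

theorem impl_commute {F : Subgroup E} (hF : Nondeg z F) {g : G} (hg : Stab F g)
    {V : Module.End ℂ W} (hV : Impl ρ F g V) {X : Module.End ℂ W}
    (hX : ∀ f ∈ F, X * ρ f = ρ f * X) : X * V = V * X := by
  obtain ⟨U, hU, -, hUX⟩ := c.exists_impl hF hg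
  obtain ⟨r, rfl⟩ := c.impl_unique hF hg hU hV
  rw [mul_smul_comm, hUX X hX, smul_mul_assoc]

theorem exists_unit_scalar {F : Subgroup E} (hF : Nondeg z F) {g : G} (hg : Stab F g)
    {U V : (Module.End ℂ W)ˣ} (hU : Impl ρ F g U) (hV : Impl ρ F g V) :
    ∃ r : ℂ, r ≠ 0 ∧ (V : Module.End ℂ W) = r • (U : Module.End ℂ W) := by
  haveI := c.nontrivial
  obtain ⟨r, hr⟩ := c.impl_unique hF hg hU hV
  exact ⟨r, fun h0 => V.ne_zero (by rw [hr, h0, zero_smul]), hr⟩

end Ctx

end CfsgLib.ExtraExt
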