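import Cfsg.Agent.Lib.CharApps.ExtraspecialExtend.Ctx

/-!
# Gluing implementing homomorphisms
-/

set_option autoImplicit false
set_option linter.unusedSectionVars false

namespace CfsgLib.ExtraExt

open Cfsg CfsgLib.CharsMore

variable {G : Type*} [Group G] [Finite G] {E : Subgroup G} [E.Normal]
  {W : Type*} [AddCommGroup W] [Module ℂ W] [FiniteDimensional ℂ W]
  {ρ : Representation ℂ E W} {z : E}

/-- Multiply a unit of the endomorphism ring by a non-zero scalar. -/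
noncomputable def scl (r : ℂ) (hr : r ≠ 0) : (Module.End ℂ W)ˣ :=
  Units.map (algebraMap ℂ (Module.End ℂ W)).toMonoidHom (Units.mk0 r hr)

theorem coe_scl_mul (r : ℂ) (hr : r ≠ 0) (U : (Module.End ℂ W)ˣ) :
    ((scl r hr * U : (Module.End ℂ W)ˣ) : Module.End ℂ W) = r • (U : Module.End ℂ W) := by
  simp [scl, Algebra.algebraMap_eq_smul_one]

theorem scl_comm (r : ℂ) (hr : r ≠ 0) (U : (Module.End ℂ W)ˣ) : Commute (scl r hr) U :=
  Units.ext (Algebra.commutes r (U : Module.End ℂ W))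

theorem scl_mul (a b : ℂ) (ha : a ≠ 0) (hb : b ≠ 0) :
    (scl a ha * scl b hb : (Module.End ℂ W)ˣ) = scl (a * b) (mul_ne_zero ha hb) := by
  rw [scl, scl, scl, ← map_mul, Units.mk0_mul]

theorem scl_congr {a b : ℂ} (h : a = b) (ha : a ≠ 0) :
    (scl a ha : (Module.End ℂ W)ˣ) = scl b (h ▸ ha) := by subst h; rfl

theorem smul_right_cancel_unit [Nontrivial W] {a b : ℂ} (U : (Module.End ℂ W)ˣ)
    (h : a • (U : Module.End ℂ W) = b • (U : Module.End ℂ W)) : a = b := by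
  by_contra hne
  refine U.ne_zero ((smul_eq_zero.1 (?_ : (a - b) • (U : Module.End ℂ W) = 0)).resolve_left
    (sub_ne_zero.2 hne))
  rw [sub_smul, h, sub_self]

namespace Ctx

variable (c : Ctx ρ z)
include c

/-- A projective lift whose scalars have exponent prime to the order gives a lift. -/
theorem lifts_of_scalars {F : Subgroup E} {S : Subgroup G} {M : ℕ}
    (hcop : (Nat.card S).Coprime M) (U : S → (Module.End ℂ W)ˣ)
    (hU : ∀ x : S, Impl ρ F x (U x))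
    (hmul : ∀ x y : S, ∃ r : ℂ, r ^ M = 1 ∧
      (U x * U y : Module.End ℂ W) = r • (U (x * y) : Module.End ℂ W)) : Lifts ρ F S := by
  classical
  haveI := c.nontrivial
  haveI := Fintype.ofFinite S
  choose κ hκM hκ using hmul
  have hκ0 : ∀ x y, κ x y ≠ 0 := fun x y h => by
    have h' := hκ x y
    rw [h, zero_smul, ← Units.val_mul] at h'
    exact Units.ne_zero _ h'
  have hco : ∀ x y w, κ x y * κ (x * y) w = κ y w * κ x (y * w) := by
    intro x y w
    refine smul_right_cancel_unit (U (x * y * w)) ?_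
    rw [mul_smul, mul_smul, ← hκ, mul_assoc x y w, ← hκ, ← smul_mul_assoc, ← hκ, ← mul_smul_comm,
      ← hκ, mul_assoc]
  let g : S → ℂ := fun x => ∏ y, κ x y
  have hg0 : ∀ x, g x ≠ 0 := fun x => Finset.prod_ne_zero_iff.2 fun y _ => hκ0 x y
  have hgM : ∀ x, g x ^ M = 1 := fun x => by
    rw [← Finset.prod_pow]; exact Finset.prod_eq_one fun y _ => hκM x y
  have hg : ∀ x y, κ x y ^ Fintype.card S * g (x * y) = g y * g x := by
    intro x y
    have h := Finset.prod_congr rfl (fun w (_ : w ∈ Finset.univ) => hco x y w)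
    rw [Finset.prod_mul_distrib, Finset.prod_mul_distrib, Finset.prod_const,
      Finset.card_univ] at h
    have e : ∏ w, κ x (y * w) = g x := Equiv.prod_comp (Equiv.mulLeft y) (fun w => κ x w)
    rw [e] at h
    exact h
  obtain ⟨a, b, hab⟩ : ∃ a b : ℤ, (Fintype.card S : ℤ) * a + (M : ℤ) * b = 1 := by
    refine ⟨_, _, (Nat.gcd_eq_gcd_ab (Fintype.card S) M).symm.trans ?_⟩
    rw [← Nat.card_eq_fintype_card, hcop]
    rfl
  let ν : S → ℂ := fun x => (g x ^ a)⁻¹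
  have hν0 : ∀ x, ν x ≠ 0 := fun x => inv_ne_zero (zpow_ne_zero _ (hg0 x))
  have hν : ∀ x y, ν x * ν y * κ x y = ν (x * y) := by
    intro x y
    have h1 : κ x y ^ ((Fintype.card S : ℤ) * a) * g (x * y) ^ a = g y ^ a * g x ^ a := by
      rw [zpow_mul, ← mul_zpow, ← mul_zpow, zpow_natCast, hg]
    have h2 : κ x y ^ ((Fintype.card S : ℤ) * a) = κ x y := by
      rw [show (Fintype.card S : ℤ) * a = 1 - (M : ℤ) * b by linarith, zpow_sub₀ (hκ0 x y),
        zpow_one, zpow_mul, zpow_natCast, hκM, one_zpow, div_one]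
    rw [h2] at h1
    simp only [ν]
    have := zpow_ne_zero a (hg0 x)
    have := zpow_ne_zero a (hg0 y)
    have := zpow_ne_zero a (hg0 (x * y))
    field_simp
    linear_combination h1
  refine ⟨MonoidHom.mk' (fun x => scl (ν x) (hν0 x) * U x) fun x y => Units.ext ?_, fun x => ?_⟩
  · rw [Units.val_mul (scl (ν x) _ * U x), coe_scl_mul, coe_scl_mul, coe_scl_mul,
      smul_mul_smul_comm, hκ, smul_smul, hν]
  · show Impl ρ F x ((scl (ν x) (hν0 x) * U x : (Module.End ℂ W)ˣ) : Module.End ℂ W)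
    rw [coe_scl_mul]
    exact impl_smul _ (hU x)

theorem impl_pow {F : Subgroup E} {g : G} (hg : Stab F g) {U : Module.End ℂ W}
    (hU : Impl ρ F g U) : ∀ n : ℕ, Impl ρ F (g ^ n) (U ^ n)
  | 0 => by rw [pow_zero, pow_zero]; exact impl_one F
  | n + 1 => by rw [pow_succ, pow_succ]; exact impl_mul hg (impl_pow hg hU n) hU

/-- An invariant lift extends over a cyclic quotient. -/
theorem lifts_extend {F : Subgroup E} (hF : Nondeg z F) {S0 S : Subgroup G}
    (hS : ∀ g ∈ S, Stab F g) (hle : S0 ≤ S) {s : G} (hs : s ∈ S)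
    (hn : ∀ x ∈ S0, s * x * s⁻¹ ∈ S0) (hgen : ∀ g ∈ S, ∃ i : ℕ, ∃ x ∈ S0, g = x * s ^ i)
    (T : S0 →* (Module.End ℂ W)ˣ) (hT : ∀ x : S0, Impl ρ F x (T x)) {U : (Module.End ℂ W)ˣ}
    (hU : Impl ρ F s U) (hUT : ∀ x : S0, U * T x = T ⟨_, hn x x.2⟩ * U) : Lifts ρ F S := by
  classical
  haveI := c.nontrivial
  have hex : ∃ b, 0 < b ∧ s ^ b ∈ S0 :=
    ⟨orderOf s, orderOf_pos s, by rw [pow_orderOf_eq_one]; exact one_mem _⟩
  set b := Nat.find hex with hb
  obtain ⟨hb0, hbS⟩ := Nat.find_spec hex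
  obtain ⟨r, hr0, hr⟩ := c.exists_unit_scalar hF (hS _ (pow_mem hs b)) (hT ⟨_, hbS⟩)
    (V := U ^ b) (by rw [Units.val_pow_eq_pow_val]; exact impl_pow c (hS s hs) hU b)
  obtain ⟨μ, hμ⟩ := IsAlgClosed.exists_pow_nat_eq r⁻¹ hb0
  have hμ0 : μ ≠ 0 := fun h => inv_ne_zero hr0 (by rw [← hμ, h, zero_pow hb0.ne'])
  set V := scl μ hμ0 * U with hV
  have hVb : V ^ b = T ⟨_, hbS⟩ := by
    refine Units.ext ?_
    rw [hV, (scl_comm μ hμ0 U).mul_pow, scl, ← map_pow, Units.val_mul, hr]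
    simp [Algebra.algebraMap_eq_smul_one, smul_pow, smul_smul]
    rw [show μ ^ b = r⁻¹ from hμ, mul_inv_cancel₀ hr0, one_smul]
  have hVI : Impl ρ F s (V : Module.End ℂ W) := by rw [hV, coe_scl_mul]; exact impl_smul μ hU
  have hVT : ∀ x : S0, V * T x = T ⟨_, hn x x.2⟩ * V := fun x => by
    rw [hV, mul_assoc, hUT, ← mul_assoc, (scl_comm μ hμ0 _).eq, mul_assoc]
  have hni : ∀ i : ℕ, ∀ x ∈ S0, s ^ i * x * (s ^ i)⁻¹ ∈ S0 := by
    intro i
    induction i with
    | zero => simp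
    | succ i ih =>
      intro x hx
      have h := hn _ (ih x hx)
      convert h using 1
      rw [pow_succ']; group
  have hVi : ∀ (i : ℕ) (x : S0), V ^ i * T x = T ⟨_, hni i x x.2⟩ * V ^ i := by
    intro i
    induction i with
    | zero => intro x; rw [pow_zero, one_mul, mul_one]; congr 1; ext; simp
    | succ i ih =>
      intro x
      rw [pow_succ', mul_assoc, ih, ← mul_assoc, hVT, mul_assoc]
      congr 2
      ext
      simp [mul_assoc]
      rw [pow_succ']; group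
  have hker : ∀ (k : ℕ) (hk : s ^ k ∈ S0), V ^ k = T ⟨_, hk⟩ := by
    intro k hk
    have hmod : k % b = 0 := by
      by_contra hne
      refine Nat.find_min hex (m := k % b) (Nat.mod_lt _ hb0) ⟨Nat.pos_of_ne_zero hne, ?_⟩
      have : s ^ k = (s ^ b) ^ (k / b) * s ^ (k % b) := by
        rw [← pow_mul, ← pow_add, Nat.div_add_mod]
      rw [this] at hk
      exact (Subgroup.mul_mem_cancel_left _ (pow_mem hbS _)).1 hk
    obtain ⟨q, rfl⟩ := Nat.dvd_of_mod_eq_zero hmod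
    rw [pow_mul, hVb, ← map_pow]
    congr 1
    ext
    exact (pow_mul s b q).symm
  have hwd : ∀ (i j : ℕ) (x y : S0), (x : G) * s ^ i = y * s ^ j → T x * V ^ i = T y * V ^ j := by
    intro i j
    wlog hij : j ≤ i generalizing i j
    · exact fun x y h => (this j i (le_of_not_ge hij) y x h.symm).symm
    intro x y h
    obtain ⟨k, rfl⟩ := Nat.exists_eq_add_of_le hij
    rw [add_comm j k, pow_add, ← mul_assoc, mul_left_inj] at h
    have hk : s ^ k = ((x⁻¹ * y : S0) : G) := by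
      rw [Subgroup.coe_mul, Subgroup.coe_inv, ← h, inv_mul_cancel_left]
    have hk' : s ^ k ∈ S0 := hk ▸ Subtype.mem _
    rw [add_comm j k, pow_add, ← mul_assoc, hker k hk', ← map_mul]
    congr 2
    ext
    show (x : G) * s ^ k = y
    rw [hk, Subgroup.coe_mul, Subgroup.coe_inv, mul_inv_cancel_left]
  choose fi fx hfx hf using fun g : S => hgen g g.2
  let T' : S → (Module.End ℂ W)ˣ := fun g => T ⟨fx g, hfx g⟩ * V ^ fi g
  have hT' : ∀ (g : S) (i : ℕ) (x : S0), (g : G) = x * s ^ i → T' g = T x * V ^ i :=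
    fun g i x h => hwd _ _ _ _ (by rw [← h]; exact (hf g).symm)
  refine ⟨MonoidHom.mk' T' fun g h => ?_, fun g => ?_⟩
  · rw [hT' (g * h) (fi g + fi h) (⟨fx g, hfx g⟩ * ⟨_, hni (fi g) _ (hfx h)⟩) ?_, map_mul, pow_add]
    · simp only [T']
      rw [← mul_assoc, mul_assoc (T _) _ (V ^ fi g), ← hVi (fi g) ⟨fx h, hfx h⟩]
      simp only [mul_assoc]
    · rw [Subgroup.coe_mul, hf g, hf h, Subgroup.coe_mul, pow_add]
      simp only [mul_assoc, inv_mul_cancel_left]
  · show Impl ρ F (g : G) ((T ⟨fx g, hfx g⟩ * V ^ fi g : (Module.End ℂ W)ˣ) : Module.End ℂ W)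
    rw [hf g, Units.val_mul, Units.val_pow_eq_pow_val]
    exact impl_mul (hS _ (pow_mem hs _)) (hT _) (impl_pow c (hS s hs) hVI _)

/-- Lifts on two commuting factors give a lift on their join. -/
theorem lifts_sup {F1 F2 : Subgroup E} (h1 : Nondeg z F1) (h2 : Nondeg z F2)
    (h12 : ∀ a ∈ F1, ∀ b ∈ F2, a * b = b * a) {S : Subgroup G}
    (hS1 : ∀ g ∈ S, Stab F1 g) (hS2 : ∀ g ∈ S, Stab F2 g)
    {T1 T2 : S →* (Module.End ℂ W)ˣ} (hT1 : ∀ x : S, Impl ρ F1 x (T1 x))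
    (hT2 : ∀ x : S, Impl ρ F2 x (T2 x)) :
    ∃ T : S →* (Module.End ℂ W)ˣ, (∀ x, T x = T1 x * T2 x) ∧
      (∀ x y, T1 x * T2 y = T2 y * T1 x) ∧ ∀ x : S, Impl ρ (F1 ⊔ F2) x (T x) := by
  have hc : ∀ x y, T1 x * T2 y = T2 y * T1 x := fun x y => Units.ext
    (c.impl_commute h2 (hS2 y y.2) (hT2 y) fun f hf =>
      (hT1 x).1 f fun a ha => h12 a ha f hf)
  refine ⟨MonoidHom.mk' (fun x => T1 x * T2 x) fun x y => ?_, fun x => rfl, hc, fun x => ?_⟩
  · rw [map_mul, map_mul, mul_assoc (T1 x), ← mul_assoc (T1 y), hc y x]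
    simp only [mul_assoc]
  · show Impl ρ (F1 ⊔ F2) x ((T1 x * T2 x : (Module.End ℂ W)ˣ) : Module.End ℂ W)
    rw [Units.val_mul]
    refine ⟨fun d hd => ?_, ?_⟩
    · rw [mul_assoc, (hT2 x).1 d fun a ha => hd a (Subgroup.mem_sup_right ha), ← mul_assoc,
        (hT1 x).1 d fun a ha => hd a (Subgroup.mem_sup_left ha), mul_assoc]
    · intro f hf
      rw [Subgroup.sup_eq_closure] at hf
      induction hf using Subgroup.closure_induction with
      | mem f hf =>
        rcases hf with hf | hf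
        · rw [mul_assoc, (hT2 x).1 f fun a ha => (h12 f hf a ha).symm, ← mul_assoc, (hT1 x).2 f hf,
            mul_assoc]
        · rw [mul_assoc, (hT2 x).2 f hf, ← mul_assoc,
            (hT1 x).1 _ fun a ha => h12 a ha _ (hS2 x x.2 f hf), mul_assoc]
      | one => simp
      | mul a b _ _ ha hb =>
        rw [map_mul, ← mul_assoc, ha, mul_assoc, hb, ← mul_assoc, map_mul (conjBy E _), map_mul]
      | inv a _ ha =>
        have h1 : ρ (conjBy E (x : G) a⁻¹) * ρ (conjBy E (x : G) a) = 1 := by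
          rw [← map_mul, ← map_mul, inv_mul_cancel, map_one, map_one]
        have h2 : ρ a * ρ a⁻¹ = 1 := by rw [← map_mul, mul_inv_cancel, map_one]
        calc (T1 x : Module.End ℂ W) * T2 x * ρ a⁻¹
            = ρ (conjBy E (x : G) a⁻¹) * (ρ (conjBy E (x : G) a) * (T1 x * T2 x)) * ρ a⁻¹ := by
              rw [← mul_assoc, h1, one_mul]
          _ = ρ (conjBy E (x : G) a⁻¹) * ((T1 x : Module.End ℂ W) * T2 x) := by
              rw [← ha]; simp only [mul_assoc, h2, mul_one]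

/-- Two nondegenerate commuting halves exchanged by `s`. -/
theorem lifts_swap {F1 F2 : Subgroup E} (h1 : Nondeg z F1) (h2 : Nondeg z F2)
    (h12 : ∀ a ∈ F1, ∀ b ∈ F2, a * b = b * a) (hF : Nondeg z (F1 ⊔ F2)) {S0 S : Subgroup G}
    (hle : S0 ≤ S) {s : G} (hs : s ∈ S) (hn : ∀ x ∈ S0, s * x * s⁻¹ ∈ S0)
    (hn' : ∀ x ∈ S0, s⁻¹ * x * s ∈ S0) (hgen : ∀ g ∈ S, ∃ i : ℕ, ∃ x ∈ S0, g = x * s ^ i)
    (hss : s * s ∈ S0) (hS1 : ∀ g ∈ S0, Stab F1 g) (hS2 : ∀ g ∈ S0, Stab F2 g)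
    (hs12 : ∀ f ∈ F1, conjBy E s f ∈ F2) (hs21 : ∀ f ∈ F2, conjBy E s f ∈ F1)
    (hl : Lifts ρ F1 S0) : Lifts ρ (F1 ⊔ F2) S := by
  obtain ⟨T1, hT1⟩ := hl
  have hsF : Stab (F1 ⊔ F2) s := by
    intro f hf
    have : (F1 ⊔ F2) ≤ (F1 ⊔ F2).comap (conjBy E s) := sup_le
      (fun a ha => Subgroup.mem_sup_right (hs12 a ha)) (fun a ha => Subgroup.mem_sup_left (hs21 a ha))
    exact this hf
  obtain ⟨U, hU, -⟩ := c.exists_impl hF hsF
  have hs21' : ∀ f ∈ F2, conjBy E s⁻¹ f ∈ F1 := fun f hf => by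
    have h := hs21 f hf
    have h2 := hS1 _ (inv_mem hss) _ h
    rwa [← conjBy_mul, show (s * s)⁻¹ * s = s⁻¹ by group] at h2
  have hcl : ∀ d ∈ Subgroup.centralizer (F2 : Set E),
      conjBy E s⁻¹ d ∈ Subgroup.centralizer (F1 : Set E) := fun d hd a ha => by
    have := congrArg (conjBy E s⁻¹) (hd _ (hs12 a ha))
    rwa [map_mul, map_mul, conjBy_inv_cancel] at this
  -- transport of operators by `U`
  have hUρ : ∀ f : E, f ∈ F1 ⊔ F2 ∨ f ∈ Subgroup.centralizer ((F1 ⊔ F2 : Subgroup E) : Set E) →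
      ∃ f', (U : Module.End ℂ W) * ρ f = ρ f' * U := fun f hf => by
    rcases hf with hf | hf
    exacts [⟨_, hU.2 f hf⟩, ⟨f, hU.1 f hf⟩]
  let T2 : S0 →* (Module.End ℂ W)ˣ := MonoidHom.mk' (fun x => U * T1 ⟨_, hn' x x.2⟩ * U⁻¹)
    fun x y => by
      have : (⟨s⁻¹ * (x * y : S0) * s, hn' _ (x * y).2⟩ : S0) =
          ⟨_, hn' x x.2⟩ * ⟨_, hn' y y.2⟩ := Subtype.ext (by simp [mul_assoc])
      rw [this, map_mul]; group
  have hT2 : ∀ x : S0, Impl ρ F2 x (T2 x) := by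
    intro x
    set y : S0 := ⟨_, hn' x x.2⟩ with hy
    show Impl ρ F2 x ((U : Module.End ℂ W) * T1 y * (U⁻¹ : (Module.End ℂ W)ˣ))
    have hUinv : ∀ f ∈ F1, ((U⁻¹ : (Module.End ℂ W)ˣ) : Module.End ℂ W) * ρ (conjBy E s f) =
        ρ f * (U⁻¹ : (Module.End ℂ W)ˣ) := fun f hf => by
      rw [Units.inv_mul_eq_iff_eq_mul, ← mul_assoc, hU.2 f (Subgroup.mem_sup_left hf), mul_assoc,
        Units.mul_inv, mul_one]
    refine ⟨fun d hd => ?_, fun f hf => ?_⟩
    · obtain ⟨a, ha, b, hb, rfl⟩ := c.exists_factor hF d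
      have hI := impl_inv hsF hU
      have e1 : ((U⁻¹ : (Module.End ℂ W)ˣ) : Module.End ℂ W) * ρ (a * b) =
          ρ (conjBy E s⁻¹ a * b) * (U⁻¹ : (Module.End ℂ W)ˣ) := by
        rw [map_mul, map_mul, ← mul_assoc, hI.2 a ha, mul_assoc, hI.1 b hb, mul_assoc]
      have hab : conjBy E s⁻¹ a * b ∈ Subgroup.centralizer (F1 : Set E) := by
        refine mul_mem (hcl a fun f hf => ?_) (fun f hf => hb f (Subgroup.mem_sup_left hf))
        have h := hd f hf
        have h' := hb f (Subgroup.mem_sup_right hf)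
        calc f * a = f * (a * b) * b⁻¹ := by group
          _ = a * (b * f) * b⁻¹ := by rw [h, mul_assoc a b f]
          _ = a * f := by rw [← h', mul_assoc a, mul_inv_cancel_right]
      have e2 : (U : Module.End ℂ W) * ρ (conjBy E s⁻¹ a * b) = ρ (a * b) * U := by
        rw [map_mul, map_mul, ← mul_assoc, hU.2 _ (hsF.inv a ha), conjBy_cancel_inv, mul_assoc,
          hU.1 b hb, mul_assoc]
      rw [mul_assoc, e1, ← mul_assoc, mul_assoc _ (T1 y : Module.End ℂ W), (hT1 y).1 _ hab,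
        ← mul_assoc, e2]
      simp only [mul_assoc]
    · have hf' := hs21' f hf
      have e0 : ((U⁻¹ : (Module.End ℂ W)ˣ) : Module.End ℂ W) * ρ f =
          ρ (conjBy E s⁻¹ f) * (U⁻¹ : (Module.End ℂ W)ˣ) := by
        rw [← hUinv _ hf', conjBy_cancel_inv]
      rw [mul_assoc, e0, ← mul_assoc, mul_assoc _ (T1 y : Module.End ℂ W), (hT1 y).2 _ hf',
        ← mul_assoc, hU.2 _ (Subgroup.mem_sup_left (hS1 _ y.2 _ hf')),
        ← conjBy_mul, ← conjBy_mul,
        show s * (y : G) * s⁻¹ = (x : G) by simp [hy, mul_assoc]]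
      simp only [mul_assoc]
  obtain ⟨T, hTe, hcomm, hT⟩ := c.lifts_sup h1 h2 h12 hS1 hS2 hT1 hT2
  have hS : ∀ g ∈ S, Stab (F1 ⊔ F2) g := fun g hg => by
    obtain ⟨i, x, hx, rfl⟩ := hgen g hg
    refine Stab.mul (fun f hf => ?_) ?_
    · have : (F1 ⊔ F2) ≤ (F1 ⊔ F2).comap (conjBy E x) := sup_le
        (fun a ha => Subgroup.mem_sup_left (hS1 x hx a ha))
        (fun a ha => Subgroup.mem_sup_right (hS2 x hx a ha))
      exact this hf
    · induction i with
      | zero => intro f hf; rwa [pow_zero, conjBy_one]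
      | succ i ih => rw [pow_succ]; exact ih (mul_mem (hle hx) (pow_mem hs i)) |>.mul hsF
  refine c.lifts_extend hF hS hle hs hn hgen T hT hU fun x => ?_
  -- `U * U` acts as `T (s * s)` up to a scalar
  obtain ⟨r, -, hr⟩ := c.exists_unit_scalar hF (hS _ (mul_mem hs hs)) (hT ⟨_, hss⟩)
    (V := U * U) (by rw [Units.val_mul]; exact impl_mul hsF hU hU)
  have eT2 : T2 ⟨_, hn x x.2⟩ * U = U * T1 x := by
    have : (⟨s⁻¹ * (s * x * s⁻¹) * s, hn' _ (hn x x.2)⟩ : S0) = x := Subtype.ext (by group)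
    show U * T1 _ * U⁻¹ * U = _
    rw [inv_mul_cancel_right, this]
  have eT1 : T1 ⟨_, hn x x.2⟩ * U = U * T2 x := by
    show T1 _ * U = U * (U * T1 ⟨_, hn' x x.2⟩ * U⁻¹)
    refine (eq_mul_inv_iff_mul_eq.2 ?_ : T1 _ * U = U * U * T1 ⟨_, hn' x x.2⟩ * U⁻¹).trans (by simp only [mul_assoc])
    refine Units.ext ?_
    rw [mul_assoc, Units.val_mul, hr, Units.val_mul, hr, mul_smul_comm, smul_mul_assoc,
      ← Units.val_mul, ← Units.val_mul]
    congr 2
    rw [hTe, mul_assoc (T1 ⟨s * s, hss⟩) (T2 _), ← hcomm, ← mul_assoc, ← mul_assoc, ← map_mul,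
      ← map_mul]
    congr 2
    ext
    simp [mul_assoc]
  calc U * T x = U * (T2 x * T1 x) := by rw [hTe, hcomm x x]
    _ = T1 ⟨_, hn x x.2⟩ * (U * T1 x) := by rw [← mul_assoc, ← eT1, mul_assoc]
    _ = T ⟨_, hn x x.2⟩ * U := by rw [← eT2, ← mul_assoc, hTe]

end Ctx

end CfsgLib.ExtraExt
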