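import Cfsg.Agent.Lib.CharApps.ExtraspecialExtend.Rec
import Cfsg.Agent.Lib.Chars.Integral

/-!
# The faithful irreducible representation of an extraspecial normal `2`-subgroup extends
-/

set_option autoImplicit false
set_option linter.unusedSectionVars false

namespace CfsgLib.ExtraExt

open Cfsg CfsgLib.CharsMore
open Ctx (impl_mul)

variable {G : Type*} [Group G] [Finite G] {E : Subgroup G} [E.Normal]
  {W : Type} [AddCommGroup W] [Module ℂ W] [FiniteDimensional ℂ W]
  {ρ : Representation ℂ E W} {z : E}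

/-- A faithful irreducible representation of an extraspecial `2`-group gives a context. -/
theorem exists_ctx (hE : IsExtraspecial 2 E) (ρ : Representation ℂ E W) [hirr : ρ.IsIrreducible]
    (hf : ∀ e, ρ e = 1 → e = 1) : ∃ z : E, Ctx ρ z := by
  haveI := Fact.mk Nat.prime_two
  haveI : Nontrivial W := nontrivial_of_isIrreducible ρ
  obtain ⟨⟨x, hx⟩, ⟨y, hy⟩, hne, huniv⟩ := Nat.card_eq_two_iff.1 hE.2
  have hall : ∀ w ∈ Subgroup.center E, w = x ∨ w = y := fun w hw => by
    have h : (⟨w, hw⟩ : Subgroup.center E) ∈ ({⟨x, hx⟩, ⟨y, hy⟩} : Set (Subgroup.center E)) := by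
      rw [huniv]; trivial
    rcases h with h | h
    exacts [Or.inl (congrArg Subtype.val h), Or.inr (congrArg Subtype.val h)]
  have hxy : x ≠ y := fun h => hne (Subtype.ext h)
  obtain ⟨z, hzc, hz1, hz⟩ : ∃ z ∈ Subgroup.center E, z ≠ 1 ∧
      ∀ w ∈ Subgroup.center E, w = 1 ∨ w = z := by
    rcases hall 1 (one_mem _) with h | h
    · exact ⟨y, hy, fun h' => hxy (h.symm.trans h'.symm), fun w hw =>
        (hall w hw).imp (fun e => e.trans h.symm) id⟩
    · exact ⟨x, hx, fun h' => hxy (h'.trans h), fun w hw =>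
        ((hall w hw).imp id fun e => e.trans h.symm).symm⟩
  have hcentral : ∀ e : E, z * e = e * z := fun e => (Subgroup.mem_center_iff.1 hzc e).symm
  have hsq : z * z = 1 :=
    (hz _ (mul_mem hzc hzc)).resolve_right fun h => hz1 (mul_eq_left.1 h)
  refine ⟨z, ⟨hE, hz1, hcentral, hsq, fun a b => ?_, fun a ha => ?_, ?_, hirr⟩⟩
  · rcases hz _ (PGroups.Extraspecial.commutator_mem_center hE a b) with h | h
    · left; exact commutatorElement_eq_one_iff_mul_comm.1 h
    · right; rw [← h, commutatorElement_def]; group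
  · exact hz a (Subgroup.mem_center_iff.2 fun b => (ha b).symm)
  · obtain ⟨r, hr⟩ := schur_scalar ρ (ρ z) fun e => by rw [← map_mul, ← map_mul, hcentral]
    have h2 : r * r = 1 := by
      have h := congrArg (fun e => ρ e) hsq
      simp only [map_mul, map_one, hr, smul_mul_smul_comm, one_mul] at h
      refine smul_left_injective ℂ (one_ne_zero (α := Module.End ℂ W)) ?_
      simpa using h
    rcases mul_self_eq_one_iff.1 h2 with h | h
    · exact absurd (hf z (by rw [hr, h, one_smul])) hz1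
    · rw [hr, h, neg_smul, one_smul]

namespace Ctx

variable (c : Ctx ρ z)
include c

theorem isInvariant : IsInvariant E ρ := fun g => by
  obtain ⟨U, hU, -⟩ := c.exists_impl c.nondeg_top (g := g) (fun f _ => Subgroup.mem_top _)
  exact ⟨U, fun n => hU.2 n (Subgroup.mem_top n)⟩

/-- A group of odd order lifts. -/
theorem lifts_odd {S : Subgroup G} (hS : Odd (Nat.card S)) : Lifts ρ ⊤ S := by
  haveI := c.irr
  haveI := c.nontrivial
  haveI := Fact.mk Nat.prime_two
  have hst : ∀ g : G, Stab (⊤ : Subgroup E) g := fun g f _ => Subgroup.mem_top _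
  set d := Module.finrank ℂ W with hd
  have hd0 : 0 < d := Module.finrank_pos
  have hcop : (Nat.card S).Coprime d := by
    obtain ⟨k, hk⟩ := IsPGroup.iff_card.1 c.ext.1.1
    obtain ⟨l, -, hl⟩ := (Nat.dvd_prime_pow Nat.prime_two).1 (hk ▸ Chars.finrank_dvd_card ρ)
    rw [hd, hl]
    exact Nat.Coprime.pow_right _ (Nat.coprime_two_right.2 hS)
  have key : ∀ x : S, ∃ U : (Module.End ℂ W)ˣ, Impl ρ ⊤ (x : G) U ∧
      LinearMap.det (U : Module.End ℂ W) = 1 := by
    intro x
    obtain ⟨U, hU, -⟩ := c.exists_impl c.nondeg_top (hst x)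
    have hdet : LinearMap.det (U : Module.End ℂ W) ≠ 0 := (U.isUnit.map LinearMap.det).ne_zero
    obtain ⟨r, hr⟩ := IsAlgClosed.exists_pow_nat_eq (LinearMap.det (U : Module.End ℂ W))⁻¹ hd0
    have hr0 : r ≠ 0 := fun h => inv_ne_zero hdet (by rw [← hr, h, zero_pow hd0.ne'])
    refine ⟨scl r hr0 * U, ?_, ?_⟩
    · rw [coe_scl_mul]; exact impl_smul r hU
    · rw [coe_scl_mul, LinearMap.det_smul, ← hd, hr, inv_mul_cancel₀ hdet]
  choose U hU hUdet using key
  refine c.lifts_of_scalars hcop U hU fun x y => ?_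
  obtain ⟨r, hr⟩ := c.impl_unique c.nondeg_top (hst _) (hU (x * y))
    (impl_mul (hst _) (hU x) (hU y))
  refine ⟨r, ?_, hr⟩
  have h := congrArg LinearMap.det hr
  rw [map_mul, hUdet, hUdet, LinearMap.det_smul, hUdet, mul_one, mul_one] at h
  exact h.symm

/-- The fixed points of a group `K` with `[E, K] = E` are central. -/
theorem small_fix {K : Subgroup G} (hK : Odd (Nat.card K)) (hEK : ⁅E, K⁆ = E) :
    Small z (fixF ⊤ K) := by
  have hst : ∀ g ∈ K, Stab (⊤ : Subgroup E) g := fun g _ f _ => Subgroup.mem_top _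
  set A := fixF (⊤ : Subgroup E) K
  have hA : Nondeg z A := c.nondeg_fixF c.nondeg_top hK hst
  obtain ⟨-, hsup⟩ := c.orth c.nondeg_top hA le_top
  set B := (⊤ : Subgroup E) ⊓ Subgroup.centralizer (A : Set E) with hB
  haveI := Fact.mk Nat.prime_two
  haveI : B.Normal := PGroups.Extraspecial.normal_of_center_le c.ext
    (c.center_le (F := B) ⟨Subgroup.mem_top _, c.z_mem_centralizer _⟩)
  have hBs : ∀ g ∈ K, Stab B g := fun g hg f hf =>
    ⟨Subgroup.mem_top _, Stab.centralizer (fun a (ha : a ∈ A) => by rw [ha.2 g hg]; exact ha) f hf.2⟩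
  have hle : E ≤ B.map E.subtype := by
    conv_lhs => rw [← hEK]
    rw [Subgroup.commutator_le]
    intro e he k hk
    have hx : (⟨e, he⟩ : E) ∈ ((A ⊔ B : Subgroup E) : Set E) := by rw [hsup]; trivial
    rw [Subgroup.mul_normal] at hx
    obtain ⟨a, ha, b, hb, hab⟩ := hx
    refine ⟨(⟨e, he⟩ : E) * (conjBy E k ⟨e, he⟩)⁻¹, ?_, ?_⟩
    · have hab' : a * b = ⟨e, he⟩ := hab
      have hm : b * (conjBy E k b)⁻¹ ∈ B := mul_mem hb (inv_mem (hBs k hk b hb))
      have hcm : a * (b * (conjBy E k b)⁻¹) = b * (conjBy E k b)⁻¹ * a := hm.2 a ha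
      rw [← hab', map_mul, ha.2 k hk, mul_inv_rev]
      rw [← mul_assoc (a * b), mul_assoc a b, hcm, mul_inv_cancel_right]
      exact hm
    · simp only [Subgroup.coe_subtype, Subgroup.coe_mul, Subgroup.coe_inv, coe_conjBy,
        commutatorElement_def]
      group
  intro a ha
  refine c.radical a fun e => ?_
  obtain ⟨e', he', hee⟩ := hle e.2
  rw [← (Subtype.ext hee : e' = e)]
  exact he'.2 a ha

/-- A representation of `E` and a lift on a complement combine. -/
theorem exists_rep_sup {S : Subgroup G} (hdis : E ⊓ S = ⊥) (hl : Lifts ρ ⊤ S) :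
    ∃ R : Representation ℂ ↥(E ⊔ S) W, ∀ n : E, R ⟨n, Subgroup.mem_sup_left n.2⟩ = ρ n := by
  obtain ⟨T, hT⟩ := hl
  have hdec : ∀ x : ↥(E ⊔ S), ∃ e : E, ∃ s : S, (x : G) = (e : G) * s := fun x => by
    have hx : (x : G) ∈ ((E ⊔ S : Subgroup G) : Set G) := x.2
    rw [Subgroup.normal_mul] at hx
    obtain ⟨e, he, s, hs, h⟩ := hx
    exact ⟨⟨e, he⟩, ⟨s, hs⟩, h.symm⟩
  choose fe fs hf using hdec
  have huniq : ∀ (x : ↥(E ⊔ S)) (e : E) (s : S), (x : G) = (e : G) * s → fe x = e ∧ fs x = s := by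
    intro x e s h
    rw [hf x] at h
    have hmem : (e : G)⁻¹ * fe x ∈ E ⊓ S := Subgroup.mem_inf.2
      ⟨mul_mem (inv_mem e.2) (fe x).2, by
        rw [show (e : G)⁻¹ * fe x = (s : G) * (fs x : G)⁻¹ by
          rw [eq_mul_inv_iff_mul_eq, mul_assoc, h, inv_mul_cancel_left]]
        exact mul_mem s.2 (inv_mem (fs x).2)⟩
    rw [hdis, Subgroup.mem_bot, inv_mul_eq_one] at hmem
    rw [← hmem, mul_right_inj] at h
    exact ⟨Subtype.ext hmem.symm, Subtype.ext h⟩
  let f : ↥(E ⊔ S) → Module.End ℂ W := fun x => ρ (fe x) * (T (fs x) : Module.End ℂ W)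
  have hfe : ∀ (x : ↥(E ⊔ S)) (e : E) (s : S), (x : G) = (e : G) * s →
      f x = ρ e * (T s : Module.End ℂ W) := fun x e s h => by
    simp only [f, (huniq x e s h).1, (huniq x e s h).2]
  refine ⟨{ toFun := f, map_one' := ?_, map_mul' := fun x y => ?_ }, fun n => ?_⟩
  · rw [hfe 1 1 1 (by simp), map_one, map_one, Units.val_one, one_mul]
  · rw [hfe (x * y) (fe x * conjBy E (fs x : G) (fe y)) (fs x * fs y) (by
      simp only [Subgroup.coe_mul, coe_conjBy, hf x, hf y]; group)]
    simp only [f]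
    rw [map_mul, map_mul, Units.val_mul, mul_assoc, ← mul_assoc _ (T (fs x) : Module.End ℂ W),
      ← (hT (fs x)).2 _ (Subgroup.mem_top _)]
    simp only [mul_assoc]
  · show f _ = _
    rw [hfe _ n 1 (by simp), map_one, Units.val_one, mul_one]

/-- The extension. -/
theorem repExtends {H K : Subgroup G} (hdis : E ⊓ H = ⊥) (htop : E ⊔ H = ⊤)
    (hKn : ∀ h ∈ H, ∀ k ∈ K, h * k * h⁻¹ ∈ K) (hK : Odd (Nat.card K)) (hEK : ⁅E, K⁆ = E) :
    RepExtends E ρ := by
  haveI := c.irr
  refine repExtends_of_local E ρ c.isInvariant fun p hp => ?_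
  haveI := Fact.mk hp
  let P : Sylow p H := default
  set S : Subgroup G := (P : Subgroup H).map H.subtype with hS
  have hSle : S ≤ H := Subgroup.map_subtype_le _
  have hdS : E ⊓ S = ⊥ := eq_bot_iff.2 ((inf_le_inf_left E hSle).trans hdis.le)
  have hcardS : Nat.card S = Nat.card (P : Subgroup H) :=
    Subgroup.card_map_of_injective H.subtype_injective
  have hSp : IsPGroup p S := P.2.map H.subtype
  refine ⟨E ⊔ S, le_sup_left, ?_, c.exists_rep_sup hdS ?_⟩
  · have h1 : ∀ L : Subgroup G, E ⊓ L = ⊥ → Nat.card ↥(E ⊔ L) = Nat.card E * Nat.card L := fun L hL => by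
      have h := Base.card_sup_mul_card_inf L E
      rw [sup_comm, inf_comm, hL, Subgroup.card_bot, mul_one] at h
      rw [h, mul_comm]
    have h2 := (E ⊔ S).card_mul_index
    have h3 : Nat.card G = Nat.card E * Nat.card H := by rw [← h1 H hdis, htop, Subgroup.card_top]
    rw [h1 S hdS, h3, mul_assoc, hcardS, ← (P : Subgroup H).card_mul_index] at h2
    rw [Nat.eq_of_mul_eq_mul_left Nat.card_pos (Nat.eq_of_mul_eq_mul_left Nat.card_pos h2)]
    exact ((hp.coprime_iff_not_dvd).2 P.not_dvd_index).symm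
  · by_cases h2 : p = 2
    · subst h2
      exact c.lifts_of_odd hSp hK (fun g hg => hKn g (hSle hg)) _ ⊤ rfl c.nondeg_top
        (fun g _ f _ => Subgroup.mem_top _) (fun g _ f _ => Subgroup.mem_top _) (c.small_fix hK hEK)
    · refine c.lifts_odd ?_
      obtain ⟨k, hk⟩ := IsPGroup.iff_card.1 hSp
      rw [hk]
      exact (hp.odd_of_ne_two h2).pow

end Ctx

end CfsgLib.ExtraExt
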