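import Cfsg.Agent.Lib.CharApps.ExtraspecialExtend.Base
import Cfsg.Agent.Lib.OddOrder.Generation

/-!
# Orthogonal decompositions under groups of odd order
-/

set_option autoImplicit false
set_option linter.unusedSectionVars false

namespace CfsgLib.ExtraExt

open Cfsg CfsgLib.CharsMore
open Ctx (impl_inv impl_congr impl_one impl_smul impl_mul)

variable {G : Type*} [Group G] [Finite G] {E : Subgroup G} [E.Normal]
  {W : Type} [AddCommGroup W] [Module ℂ W] [FiniteDimensional ℂ W]
  {ρ : Representation ℂ E W} {z : E}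

/-- The points of `F` fixed by `R`. -/
def fixF (F : Subgroup E) (R : Subgroup G) : Subgroup E where
  carrier := {f | f ∈ F ∧ ∀ g ∈ R, conjBy E g f = f}
  one_mem' := ⟨one_mem F, fun g _ => map_one _⟩
  mul_mem' := fun ha hb => ⟨mul_mem ha.1 hb.1, fun g hg => by rw [map_mul, ha.2 g hg, hb.2 g hg]⟩
  inv_mem' := fun ha => ⟨inv_mem ha.1, fun g hg => by rw [map_inv, ha.2 g hg]⟩

/-- The elements acting trivially on `F`. -/
def actKer (F : Subgroup E) : Subgroup G where
  carrier := {g | ∀ f ∈ F, conjBy E g f = f}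
  one_mem' := fun f _ => conjBy_one f
  mul_mem' := fun ha hb f hf => by rw [conjBy_mul, hb f hf, ha f hf]
  inv_mem' := fun {a} ha f hf => by
    conv_lhs => rw [← ha f hf]
    exact conjBy_inv_cancel a f

/-- At most the centre. -/
def Small (z : E) (A : Subgroup E) : Prop := ∀ a ∈ A, a = 1 ∨ a = z

theorem Stab.of_iSup {ι : Sort*} {A : ι → Subgroup E} {g : G} (σ : ι → ι)
    (h : ∀ i, ∀ f ∈ A i, conjBy E g f ∈ A (σ i)) : Stab (⨆ i, A i) g := by
  intro f hf
  have : (⨆ i, A i) ≤ (⨆ i, A i).comap (conjBy E g) := iSup_le fun i a ha => le_iSup A (σ i) (h i a ha)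
  exact this hf

namespace Ctx

variable (c : Ctx ρ z)
include c

theorem fixed_of_pow {g : G} {n : ℕ} (hn : Odd n) {x : E} (hx : conjBy E (g ^ n) x = x)
    (h : conjBy E g x = x ∨ conjBy E g x = x * z) : conjBy E g x = x := by
  rcases h with h | h
  · exact h
  exfalso
  have hi : ∀ k : ℕ, conjBy E (g ^ k) x = x * z ^ k := by
    intro k
    induction k with
    | zero => simp [conjBy_one]
    | succ k ih => rw [pow_succ', conjBy_mul, ih, map_mul, map_pow, c.conj_z, h, mul_assoc, ← pow_succ']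
  obtain ⟨j, rfl⟩ := hn
  have := hi (2 * j + 1)
  rw [hx, pow_succ, pow_mul, _root_.sq, c.sq, one_pow, one_mul] at this
  exact c.ne_one (mul_eq_left.1 this.symm)

/-- Averaging over a group of odd order. -/
theorem exists_average {F : Subgroup E} (hz : z ∈ F) {R : Subgroup G} (hR : Odd (Nat.card R))
    (hst : ∀ g ∈ R, Stab F g) (χ : F →* ℤˣ) (hχz : χ ⟨z, hz⟩ = 1)
    (hχ : ∀ (g : G) (hg : g ∈ R) (f : F), χ ⟨conjBy E g f, hst g hg f f.2⟩ = χ f) (y : F) :
    ∃ y' : F, (y' : E) ∈ fixF F R ∧ χ y' = χ y := by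
  classical
  let zF : F := ⟨z, hz⟩
  haveI : (Subgroup.zpowers zF).Normal := ⟨fun a ha b => by
    obtain ⟨i, rfl⟩ := ha
    have : Commute b zF := Subtype.ext (c.central _).symm
    rw [(this.zpow_right i).eq, mul_inv_cancel_right]
    exact ⟨i, rfl⟩⟩
  have hzs : ∀ a : F, a ∈ Subgroup.zpowers zF → (a : E) = 1 ∨ (a : E) = z := by
    rintro _ ⟨i, rfl⟩
    have h2 : zF ^ (2 : ℤ) = 1 := Subtype.ext (by rw [zpow_two]; exact c.sq)
    rcases Int.even_or_odd' i with ⟨j, rfl | rfl⟩
    · left; show ((zF ^ (2 * j) : F) : E) = 1; rw [zpow_mul, h2, one_zpow]; rfl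
    · right; show ((zF ^ (2 * j + 1) : F) : E) = z
      rw [zpow_add, zpow_mul, h2, one_zpow, one_mul, zpow_one]
  letI : CommGroup (F ⧸ Subgroup.zpowers zF) :=
    { (inferInstance : Group (F ⧸ Subgroup.zpowers zF)) with
      mul_comm := fun a b => by
        induction a using QuotientGroup.induction_on with | H a => ?_
        induction b using QuotientGroup.induction_on with | H b => ?_
        rw [← QuotientGroup.mk_mul, ← QuotientGroup.mk_mul, eq_comm, QuotientGroup.eq]
        rcases c.comm (a : E) b with h | h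
        · rw [show a * b = b * a from Subtype.ext h, inv_mul_cancel]; exact one_mem _
        · refine ⟨1, ?_⟩
          show zF ^ (1 : ℤ) = _
          rw [zpow_one, show a * b = zF * (b * a) from Subtype.ext h, eq_inv_mul_iff_mul_eq]
          exact Subtype.ext (c.central _).symm }
  let mk : F →* F ⧸ Subgroup.zpowers zF := QuotientGroup.mk' _
  let cR : R → (F →* F) := fun g =>
    MonoidHom.mk' (fun f => ⟨conjBy E (g : G) f, hst g g.2 f f.2⟩) fun a b => Subtype.ext (by simp)
  have hker : Subgroup.zpowers zF ≤ χ.ker := by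
    rw [Subgroup.zpowers_le]; exact hχz
  let χq : F ⧸ Subgroup.zpowers zF →* ℤˣ := QuotientGroup.lift _ χ hker
  haveI := Fintype.ofFinite R
  obtain ⟨y', hy'⟩ := QuotientGroup.mk'_surjective (Subgroup.zpowers zF) (∏ g : R, mk (cR g y))
  refine ⟨y', ⟨y'.2, fun g hg => ?_⟩, ?_⟩
  · refine c.fixed_of_pow (n := Nat.card R) hR (g := g) (x := (y' : E)) ?_ ?_
    · have h1 := congrArg Subtype.val (pow_card_eq_one' (x := (⟨g, hg⟩ : R)))
      rw [SubmonoidClass.coe_pow] at h1
      rw [h1]; exact conjBy_one _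
    · have hmk : mk (cR ⟨g, hg⟩ y') = mk y' := by
        let gq : F ⧸ Subgroup.zpowers zF →* F ⧸ Subgroup.zpowers zF :=
          QuotientGroup.map _ _ (cR ⟨g, hg⟩) (by
            rw [Subgroup.zpowers_le]
            refine ⟨1, ?_⟩
            show zF ^ (1 : ℤ) = _
            rw [zpow_one]
            exact Subtype.ext (c.conj_z g).symm)
        show gq (mk y') = mk y'
        rw [hy', map_prod]
        refine (Finset.prod_congr rfl fun x _ => ?_).trans
          (Equiv.prod_comp (Equiv.mulLeft (⟨g, hg⟩ : R)) (fun x => mk (cR x y)))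
        show mk (cR ⟨g, hg⟩ (cR x y)) = mk (cR (⟨g, hg⟩ * x) y)
        congr 1
        exact Subtype.ext (conjBy_mul g (x : G) (y : E)).symm
      rw [QuotientGroup.mk'_apply, QuotientGroup.mk'_apply, eq_comm, QuotientGroup.eq] at hmk
      rcases hzs _ hmk with h | h
      · left; exact (inv_mul_eq_one.1 h).symm
      · right; exact inv_mul_eq_iff_eq_mul.1 h
  · have h := congrArg χq hy'
    rw [map_prod] at h
    have e : ∀ g : R, χq (mk (cR g y)) = χ y := fun g => hχ g g.2 y
    rw [Finset.prod_congr rfl (fun g _ => e g), Finset.prod_const, Finset.card_univ,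
      ← Nat.card_eq_fintype_card] at h
    obtain ⟨j, hj⟩ := hR
    rw [hj, pow_succ, pow_mul, Int.units_sq, one_pow, one_mul] at h
    exact h

/-- The character `y ↦ [x, y]`. -/
theorem exists_pair_char {F : Subgroup E} (hz : z ∈ F) (x : E) :
    ∃ χ : F →* ℤˣ, χ ⟨z, hz⟩ = 1 ∧ ∀ y : F, χ y = 1 ↔ x * (y : E) = (y : E) * x := by
  classical
  let f : F → ℤˣ := fun y => if x * (y : E) = (y : E) * x then 1 else -1
  have hf : ∀ y, f y = 1 ↔ x * (y : E) = (y : E) * x := fun y => by
    simp only [f]; split_ifs with h <;> simp [h]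
  refine ⟨MonoidHom.mk' f fun a b => ?_, (hf _).2 (c.central x).symm, hf⟩
  have key : ∀ (s t u v : E), (∀ w, t * w = w * t) → x * u = s * (u * x) → x * v = t * (v * x) →
      x * (u * v) = s * t * (u * v * x) := by
    intro s t u v ht hu hv
    rw [← mul_assoc, hu, mul_assoc s, mul_assoc u x v, hv, ← mul_assoc u t, ← ht u]
    simp only [mul_assoc]
  have hne : ∀ u : E, ¬ z * u = u := fun u h => c.ne_one (mul_eq_right.1 h)
  simp only [f, Subgroup.coe_mul]
  rcases c.comm x (a : E) with ha | ha <;> rcases c.comm x (b : E) with hb | hb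
  · have h := key 1 1 _ _ (fun w => by rw [one_mul, mul_one]) (by rw [one_mul, ha]) (by rw [one_mul, hb])
    rw [one_mul, one_mul] at h
    simp [ha, hb, h]
  · have h := key 1 z _ _ c.central (by rw [one_mul, ha]) hb
    rw [one_mul] at h
    simp [ha, hb, h, hne]
  · have h := key z 1 _ _ (fun w => by rw [one_mul, mul_one]) ha (by rw [one_mul, hb])
    rw [mul_one] at h
    simp [ha, hb, h, hne]
  · have h := key z z _ _ c.central ha hb
    rw [c.sq, one_mul] at h
    simp [ha, hb, h, hne]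

/-- If `x` is fixed, then a non-commuting partner can be chosen fixed. -/
theorem commute_of_fixed {F : Subgroup E} (hz : z ∈ F) {R : Subgroup G} (hR : Odd (Nat.card R))
    (hst : ∀ g ∈ R, Stab F g) {x : E} (hx : ∀ g ∈ R, conjBy E g x = x)
    (h : ∀ y ∈ fixF F R, x * y = y * x) : ∀ y ∈ F, x * y = y * x := by
  intro y hy
  obtain ⟨χ, hχz, hχ⟩ := c.exists_pair_char hz x
  obtain ⟨y', hy', he⟩ := c.exists_average hz hR hst χ hχz (fun g hg f => by
    have key : ∀ u v : F, (χ u = 1 ↔ χ v = 1) → χ u = χ v := fun u v h => by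
      rcases Int.units_eq_one_or (χ u) with h1 | h1 <;> rcases Int.units_eq_one_or (χ v) with h2 | h2
      · rw [h1, h2]
      · exact (h.1 h1).symm ▸ h1
      · exact (h.2 h2).symm ▸ h2.symm
      · rw [h1, h2]
    refine key _ _ ?_
    rw [hχ, hχ]
    conv_lhs => rw [← hx g hg]
    rw [← map_mul, ← map_mul, (conjBy_injective g).eq_iff]) ⟨y, hy⟩
  exact (hχ ⟨y, hy⟩).1 (he ▸ (hχ y').2 (h _ hy'))

theorem nondeg_fixF {F : Subgroup E} (hF : Nondeg z F) {R : Subgroup G} (hR : Odd (Nat.card R))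
    (hst : ∀ g ∈ R, Stab F g) : Nondeg z (fixF F R) :=
  ⟨⟨hF.1, fun g _ => c.conj_z g⟩, fun x hx h =>
    hF.2 x hx.1 (c.commute_of_fixed hF.1 hR hst hx.2 h)⟩

/-- The orthogonal complement of a nondegenerate part. -/
theorem orth {F A : Subgroup E} (hF : Nondeg z F) (hA : Nondeg z A) (hAF : A ≤ F) :
    Nondeg z (F ⊓ Subgroup.centralizer (A : Set E)) ∧
      A ⊔ (F ⊓ Subgroup.centralizer (A : Set E)) = F := by
  have hsup : A ⊔ (F ⊓ Subgroup.centralizer (A : Set E)) = F := by
    refine le_antisymm (sup_le hAF inf_le_left) fun f hf => ?_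
    obtain ⟨a, ha, d, hd, rfl⟩ := c.exists_factor hA f
    exact Subgroup.mul_mem_sup ha ⟨by simpa using mul_mem (inv_mem (hAF ha)) hf, hd⟩
  refine ⟨⟨⟨hF.1, c.z_mem_centralizer A⟩, fun x hx h => hF.2 x hx.1 fun b hb => ?_⟩, hsup⟩
  have hle : A ⊔ (F ⊓ Subgroup.centralizer (A : Set E)) ≤ Subgroup.centralizer ({x} : Set E) :=
    sup_le (fun a ha => Subgroup.mem_centralizer_singleton_iff.2 ((hx.2 a ha)))
      (fun a ha => Subgroup.mem_centralizer_singleton_iff.2 (h a ha).symm)
  rw [hsup] at hle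
  exact (Subgroup.mem_centralizer_singleton_iff.1 (hle hb)).symm

end Ctx

end CfsgLib.ExtraExt
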