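import Cfsg.Agent.Lib.CharApps.ExtraspecialExtend.Orbit
import Cfsg.Agent.Lib.FT.OddOrderTheorem

/-!
# A `2`-group normalising a fixed-point-free group of odd order lifts
-/

set_option autoImplicit false
set_option linter.unusedSectionVars false

namespace CfsgLib.ExtraExt

open Cfsg CfsgLib.CharsMore
open scoped commutatorElement
open Ctx (impl_inv impl_congr impl_one impl_smul impl_mul)

variable {G : Type*} [Group G] [Finite G] {E : Subgroup G} [E.Normal]
  {W : Type} [AddCommGroup W] [Module ℂ W] [FiniteDimensional ℂ W]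
  {ρ : Representation ℂ E W} {z : E}

/-- The derived series inside `G`. -/
def dser (K : Subgroup G) : ℕ → Subgroup G
  | 0 => K
  | n + 1 => ⁅dser K n, dser K n⁆

theorem dser_eq_map (K : Subgroup G) : ∀ n, dser K n = (derivedSeries ↥K n).map K.subtype
  | 0 => by rw [derivedSeries_zero, ← MonoidHom.range_eq_map, Subgroup.range_subtype]; rfl
  | n + 1 => by rw [derivedSeries_succ, Subgroup.map_commutator, ← dser_eq_map K n]; rfl

theorem dser_le (K : Subgroup G) (n : ℕ) : dser K n ≤ K := by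
  rw [dser_eq_map]; exact Subgroup.map_subtype_le _

theorem dser_conj {K : Subgroup G} {g : G} (h : ∀ k ∈ K, g * k * g⁻¹ ∈ K) :
    ∀ n, ∀ k ∈ dser K n, g * k * g⁻¹ ∈ dser K n
  | 0 => h
  | n + 1 => by
    have hle : (dser K n).map (MulAut.conj g).toMonoidHom ≤ dser K n := by
      rintro _ ⟨k, hk, rfl⟩; exact dser_conj h n k hk
    intro k hk
    have hmem : MulAut.conj g k ∈ (⁅dser K n, dser K n⁆).map (MulAut.conj g).toMonoidHom :=
      ⟨k, hk, rfl⟩
    rw [Subgroup.map_commutator] at hmem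
    exact Subgroup.commutator_mono hle hle hmem

/-- Conjugate a subgroup. -/
def cjS (g : G) (H : Subgroup G) : Subgroup G := H.map (MulAut.conj g).toMonoidHom

theorem mem_cjS {g x : G} {H : Subgroup G} : x ∈ cjS g H ↔ ∃ h ∈ H, g * h * g⁻¹ = x := Iff.rfl

theorem cjS_mul (g h : G) (H : Subgroup G) : cjS (g * h) H = cjS g (cjS h H) := by
  unfold cjS
  rw [Subgroup.map_map]
  congr 1
  ext x
  simp [mul_assoc]

theorem cjS_one (H : Subgroup G) : cjS 1 H = H := by
  ext x
  simp [mem_cjS]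

theorem fixF_conj {F : Subgroup E} {H : Subgroup G} {g : G} (hg : Stab F g) :
    ∀ f ∈ fixF F H, conjBy E g f ∈ fixF F (cjS g H) := by
  rintro f ⟨hf, hfix⟩
  refine ⟨hg f hf, ?_⟩
  rintro _ ⟨h, hh, rfl⟩
  show conjBy E (g * h * g⁻¹) _ = _
  rw [← conjBy_mul, inv_mul_cancel_right, conjBy_mul, hfix h hh]

theorem fixF_anti {F : Subgroup E} {H H' : Subgroup G} (h : H ≤ H') : fixF F H' ≤ fixF F H :=
  fun _ hf => ⟨hf.1, fun g hg => hf.2 g (h hg)⟩

theorem fixF_mono {F F' : Subgroup E} (h : F ≤ F') (H : Subgroup G) : fixF F H ≤ fixF F' H :=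
  fun _ hf => ⟨h hf.1, hf.2⟩

namespace Ctx

variable (c : Ctx ρ z)
include c

theorem lifts_small {F : Subgroup E} (hF : Small z F) (S : Subgroup G) : Lifts ρ F S := by
  refine ⟨1, fun s => ⟨fun d _ => by simp, fun f hf => ?_⟩⟩
  have : conjBy E (s : G) f = f := by
    rcases hF f hf with rfl | rfl
    exacts [map_one _, c.conj_z _]
  simp [this]

theorem small_or_exists (A : Subgroup E) : Small z A ∨ ∃ a ∈ A, a ≠ 1 ∧ a ≠ z := by
  by_cases h : Small z A
  · exact Or.inl h
  · right; simpa [Small] using h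

theorem card_lt {A F : Subgroup E} (hAF : A ≤ F) {x : E} (hx : x ∈ F) (hxA : x ∉ A) :
    Nat.card A < Nat.card F := by
  refine lt_of_le_of_ne (Subgroup.card_le_of_le hAF) fun h => hxA ?_
  rwa [Subgroup.eq_of_le_of_card_ge hAF h.ge]

theorem stab_of_conj {A : Subgroup E} {R : Subgroup G} {F : Subgroup E} {g : G} (hA : A = fixF F R)
    (hg : Stab F g) (hR : ∀ x ∈ R, g * x * g⁻¹ ∈ R) : Stab A g := by
  intro f hf
  rw [hA] at hf ⊢
  refine ⟨hg f hf.1, fun x hx => ?_⟩
  obtain ⟨⟨y, hy⟩, hye⟩ := Finite.surjective_of_injective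
    (f := fun u : R => (⟨g * u * g⁻¹, hR u u.2⟩ : R))
    (fun a b h => Subtype.ext (by simpa using congrArg Subtype.val h)) ⟨x, hx⟩
  have hx' : g * y * g⁻¹ = x := congrArg Subtype.val hye
  rw [← hx', ← conjBy_mul, inv_mul_cancel_right, conjBy_mul, hf.2 y hy]

/-- The abelian step: the hyperplanes with fixed points give an orthogonal decomposition. -/
theorem lifts_abelian {r : ℕ} [hrp : Fact r.Prime] (hr2 : r ≠ 2) {R : Subgroup G}
    (hRodd : Odd (Nat.card R)) {S : Subgroup G} (hS2 : IsPGroup 2 S)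
    (hSR : ∀ g ∈ S, ∀ x ∈ R, g * x * g⁻¹ ∈ R) :
    ∀ n, ∀ F : Subgroup E, Nat.card F = n → Nondeg z F → (∀ g ∈ S, Stab F g) →
      (∀ g ∈ R, Stab F g) → (∀ a ∈ R, ∀ b ∈ R, ∀ f ∈ F, conjBy E (a * b) f = conjBy E (b * a) f) →
      (∀ a ∈ R, ∀ f ∈ F, conjBy E (a ^ r) f = f) → Small z (fixF F R) → Lifts ρ F S := by
  classical
  haveI : Fact (Nat.Prime 2) := ⟨Nat.prime_two⟩
  intro n
  induction n using Nat.strong_induction_on generalizing S with
  | _ n ih =>
  intro F hn hF hSF hRF hab hpow hfix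
  rcases c.small_or_exists F with hsm | ⟨a₀, ha₀, ha₀1, ha₀z⟩
  · exact c.lifts_small hsm S
  set C0 : Subgroup G := R ⊓ actKer F with hC0
  have hC0R : C0 ≤ R := inf_le_left
  -- the relevant subgroups of `R`
  let Good : Subgroup G → Prop := fun H => C0 ≤ H ∧ H ≤ R ∧ (∃ x ∈ fixF F H, x ≠ 1 ∧ x ≠ z) ∧
    ∀ H', H < H' → H' ≤ R → Small z (fixF F H')
  have hodd : ∀ H : Subgroup G, H ≤ R → Odd (Nat.card H) := fun H h =>
    hRodd.of_dvd_nat (Subgroup.card_dvd_of_le h)
  have hRH : ∀ H : Subgroup G, C0 ≤ H → H ≤ R → ∀ g ∈ R, ∀ x ∈ H, g * x * g⁻¹ ∈ H := by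
    intro H hC hH g hg x hx
    have hm : (g * x * g⁻¹) * x⁻¹ ∈ C0 := by
      refine Subgroup.mem_inf.2
        ⟨mul_mem (mul_mem (mul_mem hg (hH hx)) (inv_mem hg)) (inv_mem (hH hx)), fun f hf => ?_⟩
      have hk := hab g hg x (hH hx) _ ((hRF _ (inv_mem hg)).mul (hRF _ (inv_mem (hH hx))) f hf)
      rw [← conjBy_mul, ← conjBy_mul] at hk
      rw [show g * x * g⁻¹ * x⁻¹ = g * x * (g⁻¹ * x⁻¹) by group, hk,
        show x * g * (g⁻¹ * x⁻¹) = 1 by group, conjBy_one]
    have := mul_mem (hC hm) hx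
    rwa [inv_mul_cancel_right] at this
  -- cyclicity
  have hcyc : ∀ D : Subgroup E, Nondeg z D → D ≤ F → (∀ g ∈ R, Stab D g) → ∀ H : Subgroup G,
      C0 ≤ H → H ≤ R → (∃ v ∈ fixF D H, v ≠ 1 ∧ v ≠ z) →
      (∀ H', H < H' → H' ≤ R → Small z (fixF D H')) →
      ∀ x ∈ R, x ∉ H → ∀ y ∈ R, y ∈ H ⊔ Subgroup.zpowers x := by
    intro D hD hDF hRD H hC hH hv hmax x hx hxH y hy
    by_contra hyn
    set A := fixF D H with hA
    have hAstab : ∀ g ∈ R, Stab A g := fun g hg => c.stab_of_conj hA (hRD g hg) (hRH H hC hH g hg)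
    have hAnd : Nondeg z A := c.nondeg_fixF hD (hodd H hH) fun g hg => hRD g (hH hg)
    let zA : A := ⟨z, hAnd.1⟩
    haveI : (Subgroup.zpowers zA).Normal := ⟨fun a ha b => by
      obtain ⟨i, rfl⟩ := ha
      have : Commute b zA := Subtype.ext (c.central _).symm
      rw [(this.zpow_right i).eq, mul_inv_cancel_right]
      exact ⟨i, rfl⟩⟩
    have hzs : ∀ a : A, a ∈ Subgroup.zpowers zA → (a : E) = 1 ∨ (a : E) = z := by
      rintro _ ⟨i, rfl⟩
      have h2 : zA ^ (2 : ℤ) = 1 := Subtype.ext (by rw [zpow_two]; exact c.sq)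
      rcases Int.even_or_odd' i with ⟨j, rfl | rfl⟩
      · left; show ((zA ^ (2 * j) : A) : E) = 1; rw [zpow_mul, h2, one_zpow]; rfl
      · right; show ((zA ^ (2 * j + 1) : A) : E) = z
        rw [zpow_add, zpow_mul, h2, one_zpow, one_mul, zpow_one]
    letI : CommGroup (A ⧸ Subgroup.zpowers zA) :=
      { (inferInstance : Group (A ⧸ Subgroup.zpowers zA)) with
        mul_comm := fun a b => by
          induction a using QuotientGroup.induction_on with | H a => ?_
          induction b using QuotientGroup.induction_on with | H b => ?_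
          rw [← QuotientGroup.mk_mul, ← QuotientGroup.mk_mul, eq_comm, QuotientGroup.eq]
          rcases c.comm (a : E) b with h | h
          · rw [show a * b = b * a from Subtype.ext h, inv_mul_cancel]; exact one_mem _
          · refine ⟨1, ?_⟩
            show zA ^ (1 : ℤ) = _
            rw [zpow_one, show a * b = zA * (b * a) from Subtype.ext h, eq_inv_mul_iff_mul_eq]
            exact Subtype.ext (c.central _).symm }
    haveI : Nontrivial (A ⧸ Subgroup.zpowers zA) := by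
      obtain ⟨v, hv, hv1, hvz⟩ := hv
      refine ⟨⟨QuotientGroup.mk (⟨v, hv⟩ : A), 1, fun h => ?_⟩⟩
      rcases hzs _ ((QuotientGroup.eq_one_iff _).1 h) with h | h
      exacts [hv1 h, hvz h]
    let cg : R → (A →* A) := fun g =>
      MonoidHom.mk' (fun f => ⟨conjBy E (g : G) f, hAstab g g.2 f f.2⟩) fun a b => Subtype.ext (by simp)
    have hcgz : ∀ g : R, Subgroup.zpowers zA ≤ (Subgroup.zpowers zA).comap (cg g) := fun g => by
      rw [Subgroup.zpowers_le]
      refine ⟨1, ?_⟩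
      show zA ^ (1 : ℤ) = _
      rw [zpow_one]
      exact Subtype.ext (c.conj_z _).symm
    let cq : R → Module.End ℤ (Additive (A ⧸ Subgroup.zpowers zA)) := fun g =>
      (MonoidHom.toAdditive (QuotientGroup.map _ _ (cg g) (hcgz g))).toIntLinearMap
    -- as automorphisms
    have hmul : ∀ (g h : R) (v : A ⧸ Subgroup.zpowers zA),
        QuotientGroup.map _ _ (cg (g * h)) (hcgz _) v =
          QuotientGroup.map _ _ (cg g) (hcgz g) (QuotientGroup.map _ _ (cg h) (hcgz h) v) := by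
      intro g h v
      induction v using QuotientGroup.induction_on with | H v => ?_
      simp only [QuotientGroup.map_mk]
      congr 1
      exact Subtype.ext (conjBy_mul (E := E) (g : G) (h : G) (v : E))
    have hone : ∀ v : A ⧸ Subgroup.zpowers zA, QuotientGroup.map _ _ (cg 1) (hcgz 1) v = v := by
      intro v
      induction v using QuotientGroup.induction_on with | H v => ?_
      simp only [QuotientGroup.map_mk]
      congr 1
      exact Subtype.ext (conjBy_one (v : E))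
    let φ : R →* MulAut (A ⧸ Subgroup.zpowers zA) := MonoidHom.mk'
      (fun g =>
        { toFun := QuotientGroup.map _ _ (cg g) (hcgz g)
          invFun := QuotientGroup.map _ _ (cg g⁻¹) (hcgz g⁻¹)
          left_inv := fun v => by
            show QuotientGroup.map _ _ (cg g⁻¹) (hcgz g⁻¹) (QuotientGroup.map _ _ (cg g) (hcgz g) v) = v
            rw [← hmul]
            simp only [inv_mul_cancel]
            exact hone v
          right_inv := fun v => by
            show QuotientGroup.map _ _ (cg g) (hcgz g) (QuotientGroup.map _ _ (cg g⁻¹) (hcgz g⁻¹) v) = v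
            rw [← hmul]
            simp only [mul_inv_cancel]
            exact hone v
          map_mul' := fun a b => map_mul _ a b })
      fun g h => MulEquiv.ext fun v => hmul g h v
    have hcomm : Commute (φ ⟨x, hx⟩) (φ ⟨y, hy⟩) := by
      refine MulEquiv.ext fun v => ?_
      rw [← map_mul, ← map_mul]
      induction v using QuotientGroup.induction_on with | H v => ?_
      show QuotientGroup.map _ _ (cg _) (hcgz _) (QuotientGroup.mk v) =
        QuotientGroup.map _ _ (cg _) (hcgz _) (QuotientGroup.mk v)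
      simp only [QuotientGroup.map_mk]
      congr 1
      exact Subtype.ext (hab x hx y hy _ (hDF v.2.1))
    have hpw : ∀ g : R, φ g ^ r = 1 := fun g => by
      refine MulEquiv.ext fun v => ?_
      rw [← map_pow]
      induction v using QuotientGroup.induction_on with | H v => ?_
      show QuotientGroup.map _ _ (cg _) (hcgz _) (QuotientGroup.mk v) = _
      simp only [QuotientGroup.map_mk]
      exact congrArg _ (Subtype.ext (by
        show conjBy E ((g ^ r : R) : G) v = v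
        rw [SubgroupClass.coe_pow]; exact hpow g g.2 _ (hDF v.2.1)))
    have hVcop : (Nat.card (A ⧸ Subgroup.zpowers zA)).Coprime r := by
      have h2 : IsPGroup 2 A := (c.ext.1.1).to_subgroup A
      obtain ⟨k, hk⟩ := IsPGroup.iff_card.1 (h2.to_quotient (Subgroup.zpowers zA))
      rw [hk]
      exact Nat.Coprime.pow_left _ ((Nat.coprime_primes Nat.prime_two hrp.out).2 (Ne.symm hr2))
    obtain ⟨v, hv1, hvfix⟩ := OddOrder.exists_fixed_abelian (MonoidHom.id _) hVcop hcomm (hpw _)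
      (hpw _)
    obtain ⟨w, rfl⟩ := QuotientGroup.mk'_surjective _ v
    have key : ∀ g : R, (g : G) ∉ H → φ g (QuotientGroup.mk' _ w) = QuotientGroup.mk' _ w → False := by
      intro g hgH hgfix
      have hgw : conjBy E (g : G) w = w := by
        refine c.fixed_of_pow hRodd (g := (g : G)) ?_ ?_
        · have h1 := congrArg Subtype.val (pow_card_eq_one' (x := g))
          rw [SubmonoidClass.coe_pow] at h1
          rw [h1]; exact conjBy_one _
        · have h := hgfix
          change QuotientGroup.map _ _ (cg g) (hcgz g) (QuotientGroup.mk w) = QuotientGroup.mk w at h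
          rw [QuotientGroup.map_mk, eq_comm, QuotientGroup.eq] at h
          rcases hzs _ h with h | h
          · left; exact (inv_mul_eq_one.1 h).symm
          · right; exact inv_mul_eq_iff_eq_mul.1 h
      have hlt : H < H ⊔ Subgroup.zpowers (g : G) :=
        lt_of_le_of_ne le_sup_left fun h => hgH (h ▸ Subgroup.mem_sup_right (Subgroup.mem_zpowers _))
      have hwfix : (w : E) ∈ fixF D (H ⊔ Subgroup.zpowers (g : G)) := by
        refine ⟨w.2.1, fun u hu => ?_⟩
        let St : Subgroup G :=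
          { carrier := {u | conjBy E u (w : E) = w}
            one_mem' := conjBy_one _
            mul_mem' := fun {a b} ha hb => by
              show conjBy E (a * b) _ = _
              rw [conjBy_mul, hb, ha]
            inv_mem' := fun {a} ha => by
              show conjBy E a⁻¹ _ = _
              conv_lhs => rw [← ha]
              exact conjBy_inv_cancel a _ }
        exact (sup_le (fun u hu => w.2.2 u hu) (Subgroup.zpowers_le.2 hgw) :
          H ⊔ Subgroup.zpowers (g : G) ≤ St) hu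
      refine hv1 ((QuotientGroup.eq_one_iff _).2 ?_)
      rcases hmax _ hlt (sup_le hH (Subgroup.zpowers_le.2 g.2)) _ hwfix with h | h
      · rw [show w = 1 from Subtype.ext h]; exact one_mem _
      · rw [show w = zA from Subtype.ext h]; exact Subgroup.mem_zpowers _
    rcases hvfix with h | ⟨i, h⟩
    · exact key ⟨x, hx⟩ hxH h
    · refine key (⟨x, hx⟩ ^ i * ⟨y, hy⟩) (fun hm => hyn ?_) (by
        rw [map_mul φ, map_pow φ]; exact h)
      have hxi : x ^ i ∈ H ⊔ Subgroup.zpowers x :=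
        Subgroup.mem_sup_right (pow_mem (Subgroup.mem_zpowers x) i)
      have := mul_mem (inv_mem hxi) (Subgroup.mem_sup_left hm)
      simpa using this
  -- orthogonality
  have horth : ∀ H, Good H → ∀ H', Good H' → H ≠ H' →
      ∀ a ∈ fixF F H, ∀ b ∈ fixF F H', a * b = b * a := by
    rintro H ⟨hC, hH, -, hmax⟩ H' ⟨hC', hH', -, hmax'⟩ hne a ha b hb
    have hjoin : Small z (fixF F (H ⊔ H')) := by
      rcases (le_sup_left : H ≤ H ⊔ H').eq_or_lt with h | h
      · have hlt : H' < H := lt_of_le_of_ne (h ▸ le_sup_right) fun h' => hne h'.symm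
        rw [← h]; exact hmax' H hlt hH
      · exact hmax _ h (sup_le hH hH')
    have hst : ∀ g ∈ H', Stab (fixF F H) g := fun g hg =>
      c.stab_of_conj rfl (hRF g (hH' hg)) (hRH H hC hH g (hH' hg))
    refine (c.commute_of_fixed (F := fixF F H) ⟨hF.1, fun g _ => c.conj_z g⟩ (hodd H' hH') hst
      hb.2 (fun y hy => ?_) a ha).symm
    let St : Subgroup G :=
      { carrier := {u | conjBy E u y = y}
        one_mem' := conjBy_one _
        mul_mem' := fun {a b} ha hb => by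
          show conjBy E (a * b) _ = _
          rw [conjBy_mul, hb, ha]
        inv_mem' := fun {a} ha => by
          show conjBy E a⁻¹ _ = _
          conv_lhs => rw [← ha]
          exact conjBy_inv_cancel a _ }
    have hy' : y ∈ fixF F (H ⊔ H') := ⟨hy.1.1, fun u hu =>
      (sup_le (fun u hu => hy.1.2 u hu) (fun u hu => hy.2 u hu) : H ⊔ H' ≤ St) hu⟩
    rcases hjoin y hy' with rfl | rfl
    exacts [by simp, (c.central b).symm]
  -- sums over sets of good subgroups
  haveI : Fintype (Subgroup G) := Fintype.ofFinite _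
  set goods : Finset (Subgroup G) := Finset.univ.filter Good with hgoods
  have hgd : ∀ {H}, H ∈ goods ↔ Good H := fun {H} => by simp [hgoods]
  let EA : Finset (Subgroup G) → Subgroup E := fun s => Subgroup.zpowers z ⊔ s.sup (fixF F)
  have hEAle : ∀ (s : Finset (Subgroup G)) (A : Subgroup E), z ∈ A →
      (∀ H ∈ s, fixF F H ≤ A) → EA s ≤ A := fun s A hz h =>
    sup_le ((Subgroup.zpowers_le).2 hz) (Finset.sup_le h)
  have hEAF : ∀ s, EA s ≤ F := fun s => hEAle s F hF.1 fun H _ f hf => hf.1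
  have hEAz : ∀ s, z ∈ EA s := fun s => Subgroup.mem_sup_left (Subgroup.mem_zpowers z)
  have hEAmem : ∀ s H, H ∈ s → fixF F H ≤ EA s := fun s H h =>
    le_trans (Finset.le_sup (f := fixF F) h) le_sup_right
  have hEAmap : ∀ s t g, (∀ H ∈ s, ∃ H' ∈ t, ∀ f ∈ fixF F H, conjBy E g f ∈ fixF F H') →
      ∀ f ∈ EA s, conjBy E g f ∈ EA t := by
    intro s t g h f hf
    have : EA s ≤ (EA t).comap (conjBy E g) := by
      refine hEAle s _ ?_ fun H hH a ha => ?_
      · show conjBy E g z ∈ EA t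
        rw [c.conj_z]; exact hEAz t
      · obtain ⟨H', h1, h2⟩ := h H hH
        exact hEAmem t H' h1 (h2 a ha)
    exact this hf
  have hEAR : ∀ s ⊆ goods, ∀ g ∈ R, Stab (EA s) g := fun s hs g hg =>
    hEAmap s s g fun H hH => ⟨H, hH, fun f hf =>
      c.stab_of_conj rfl (hRF g hg) (hRH H (hgd.1 (hs hH)).1 (hgd.1 (hs hH)).2.1 g hg) f hf⟩
  have hEAcomm : ∀ s ⊆ goods, ∀ t ⊆ goods, Disjoint s t →
      ∀ a ∈ EA s, ∀ b ∈ EA t, a * b = b * a := by
    intro s hs t ht hdis
    have h : EA s ≤ Subgroup.centralizer (EA t : Set E) := by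
      refine hEAle s _ (c.z_mem_centralizer _) fun H hH => ?_
      rw [Subgroup.le_centralizer_iff]
      refine hEAle t _ (c.z_mem_centralizer _) fun H' hH' b hb a ha => ?_
      exact horth H (hgd.1 (hs hH)) H' (hgd.1 (ht hH'))
        (fun h => Finset.disjoint_left.1 hdis hH (h ▸ hH')) a ha b hb
    exact fun a ha b hb => (h ha b hb).symm
  have hEAnd : ∀ s, s ⊆ goods → Nondeg z (EA s) := by
    intro s
    induction s using Finset.induction with
    | empty =>
      intro _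
      refine ⟨hEAz _, fun x hx _ => ?_⟩
      simp only [EA, Finset.sup_empty, sup_bot_eq] at hx
      obtain ⟨i, rfl⟩ := hx
      have h2 : z ^ (2 : ℤ) = 1 := by rw [zpow_two]; exact c.sq
      rcases Int.even_or_odd' i with ⟨j, rfl | rfl⟩
      · left; show z ^ (2 * j) = 1; rw [zpow_mul, h2, one_zpow]
      · right; show z ^ (2 * j + 1) = z
        rw [zpow_add, zpow_mul, h2, one_zpow, one_mul, zpow_one]
    | insert H s hHs ihs =>
      intro hsub
      obtain ⟨hH, hs⟩ := Finset.insert_subset_iff.1 hsub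
      obtain ⟨-, hs2⟩ := ihs hs
      have hA : Nondeg z (fixF F H) :=
        c.nondeg_fixF hF (hodd H (hgd.1 hH).2.1) fun g hg => hRF g ((hgd.1 hH).2.1 hg)
      have hcm : ∀ a ∈ fixF F H, ∀ b ∈ EA s, a * b = b * a := fun a ha b hb =>
        hEAcomm {H} (Finset.singleton_subset_iff.2 hH) s hs (Finset.disjoint_singleton_left.2 hHs)
          a (hEAmem _ H (Finset.mem_singleton_self H) ha) b hb
      haveI := Fact.mk Nat.prime_two
      haveI : (EA s).Normal := PGroups.Extraspecial.normal_of_center_le c.ext (c.center_le (hEAz s))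
      have heq : EA (insert H s) = fixF F H ⊔ EA s := by
        simp only [EA, Finset.sup_insert]
        exact sup_left_comm _ _ _
      refine ⟨hEAz _, fun x hx hcom => ?_⟩
      rw [heq] at hx hcom
      have hx' : x ∈ ((fixF F H ⊔ EA s : Subgroup E) : Set E) := hx
      rw [Subgroup.mul_normal] at hx'
      obtain ⟨a, ha, b, hb, rfl⟩ := hx'
      have e1 : a = 1 ∨ a = z := by
        refine hA.2 a ha fun d hd => ?_
        have h1 := hcom d (Subgroup.mem_sup_left hd)
        rw [mul_assoc, ← hcm d hd b hb, ← mul_assoc, ← mul_assoc] at h1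
        exact mul_right_cancel h1
      have e2 : b = 1 ∨ b = z := by
        refine hs2 b hb fun d hd => ?_
        have h1 := hcom d (Subgroup.mem_sup_right hd)
        rw [mul_assoc, ← mul_assoc d a b, ← hcm a ha d hd, mul_assoc a d b] at h1
        exact mul_left_cancel h1
      rcases e1 with rfl | rfl <;> rcases e2 with rfl | rfl <;> simp [c.sq]
  have hEAall : EA goods = F := by
    set D := F ⊓ Subgroup.centralizer (EA goods : Set E) with hD
    obtain ⟨hDnd, hDsup⟩ := c.orth hF (hEAnd goods subset_rfl) (hEAF goods)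
    have hDR : ∀ g ∈ R, Stab D g := fun g hg f hf =>
      ⟨hRF g hg f hf.1, (hEAR goods subset_rfl g hg).centralizer f hf.2⟩
    rcases c.small_or_exists D with hsm | ⟨v, hv, hv1, hvz⟩
    · refine le_antisymm (hEAF goods) ?_
      rw [← hDsup]
      refine sup_le le_rfl fun d hd => ?_
      rcases hsm d hd with rfl | rfl
      exacts [one_mem _, hEAz _]
    exfalso
    obtain ⟨H, hH⟩ := (Set.toFinite {H : Subgroup G | C0 ≤ H ∧ H ≤ R ∧
      ∃ u ∈ fixF D H, u ≠ 1 ∧ u ≠ z}).exists_maximal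
      ⟨C0, le_rfl, hC0R, v, ⟨hv, fun g hg => (hg : g ∈ R ⊓ actKer F).2 v hv.1⟩, hv1, hvz⟩
    obtain ⟨⟨hC, hHR, u, hu, hu1, huz⟩, hmax⟩ := hH
    have hmax' : ∀ H', H < H' → H' ≤ R → Small z (fixF D H') := fun H' hlt hle =>
      (c.small_or_exists _).resolve_right fun h => hlt.not_ge (hmax ⟨hC.trans hlt.le, hle, h⟩ hlt.le)
    have hgood : Good H := by
      refine ⟨hC, hHR, ⟨u, fixF_mono inf_le_left H hu, hu1, huz⟩, fun H' hlt hle => ?_⟩
      obtain ⟨x, hxH', hxH⟩ := SetLike.exists_of_lt hlt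
      have : R ≤ H' := fun y hy => (sup_le hlt.le (Subgroup.zpowers_le.2 hxH'))
        (hcyc D hDnd inf_le_left hDR H hC hHR ⟨u, hu, hu1, huz⟩ hmax' x (hle hxH') hxH y hy)
      rw [le_antisymm hle this]
      exact hfix
    have huT : u ∈ EA goods := hEAmem goods H (hgd.2 hgood) (fixF_mono inf_le_left H hu)
    rcases (hEAnd goods subset_rfl).2 u huT fun b hb => (hu.1.2 b hb).symm with h | h
    exacts [hu1 h, huz h]
  -- conjugation by `S` permutes the good subgroups
  have hcjgood : ∀ g ∈ S, ∀ H, Good H → Good (cjS g H) := by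
    rintro g hg H ⟨hC, hH, ⟨u, hu, hu1, huz⟩, hmax⟩
    have hgR : ∀ x ∈ R, g⁻¹ * x * g ∈ R := fun x hx => by
      simpa using hSR g⁻¹ (inv_mem hg) x hx
    refine ⟨fun x hx => ⟨g⁻¹ * x * g, hC ⟨hgR x hx.1, fun f hf => ?_⟩, by simp [mul_assoc]⟩,
      fun x hx => ?_, ⟨conjBy E g u, fixF_conj (hSF g hg) u hu, fun h => hu1 ?_, fun h => huz ?_⟩,
      fun H' hlt hle => ?_⟩
    · rw [conjBy_mul, conjBy_mul, hx.2 _ (hSF g hg f hf), conjBy_inv_cancel]
    · obtain ⟨y, hy, rfl⟩ := hx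
      exact hSR g hg y (hH hy)
    · exact conjBy_injective g (h.trans (map_one _).symm)
    · exact conjBy_injective g (h.trans (c.conj_z g).symm)
    · have hlt' : H < cjS g⁻¹ H' := by
        refine lt_of_le_of_ne (fun x hx => ⟨g * x * g⁻¹, hlt.le ⟨x, hx, rfl⟩, by simp [mul_assoc]⟩)
          fun h => hlt.ne ?_
        rw [h, ← cjS_mul, mul_inv_cancel, cjS_one]
      have hsm := hmax _ hlt' fun x hx => by
        obtain ⟨y, hy, rfl⟩ := hx
        exact hSR _ (inv_mem hg) y (hle hy)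
      intro v hv
      have hv' := fixF_conj (hSF _ (inv_mem hg)) v hv
      rcases hsm _ hv' with h | h
      · exact Or.inl (conjBy_injective g⁻¹ (h.trans (map_one _).symm))
      · exact Or.inr (conjBy_injective g⁻¹ (h.trans (c.conj_z g⁻¹).symm))
  -- a part of the decomposition recurses
  have hrec : ∀ (S' : Subgroup G), S' ≤ S → ∀ s, s ⊆ goods → ∀ t, t ⊆ goods → Disjoint s t →
      t.Nonempty → (∀ g ∈ S', Stab (EA s) g) → Lifts ρ (EA s) S' := by
    intro S' hS' s hs t ht hdis ⟨H, hH⟩ hst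
    obtain ⟨u, hu, hu1, huz⟩ := (hgd.1 (ht hH)).2.2.1
    have hlt : Nat.card (EA s) < n := by
      refine hn ▸ c.card_lt (hEAF s) (x := u) hu.1 fun h => ?_
      rcases (hEAnd s hs).2 u h fun b hb =>
        (hEAcomm s hs t ht hdis b hb u (hEAmem t H hH hu)).symm with h | h
      exacts [hu1 h, huz h]
    exact ih _ hlt (hS2.to_le hS') (fun g hg => hSR g (hS' hg)) (EA s) rfl (hEAnd s hs) hst
      (hEAR s hs) (fun a ha b hb f hf => hab a ha b hb f (hEAF s hf))
      (fun a ha f hf => hpow a ha f (hEAF s hf))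
      fun u hu => hfix u (fixF_mono (hEAF s) R hu)
  obtain ⟨H0, hH0⟩ : goods.Nonempty := by
    by_contra h
    rw [Finset.not_nonempty_iff_eq_empty] at h
    rw [h] at hEAall
    simp only [EA, Finset.sup_empty, sup_bot_eq] at hEAall
    rw [← hEAall] at ha₀
    obtain ⟨i, rfl⟩ := ha₀
    have h2 : z ^ (2 : ℤ) = 1 := by rw [zpow_two]; exact c.sq
    rcases Int.even_or_odd' i with ⟨j, rfl | rfl⟩
    · exact ha₀1 (show z ^ (2 * j) = 1 by rw [zpow_mul, h2, one_zpow])
    · exact ha₀z (show z ^ (2 * j + 1) = z by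
        rw [zpow_add, zpow_mul, h2, one_zpow, one_mul, zpow_one])
  by_cases hone : goods = {H0}
  · -- a single fixed-point-free element
    obtain ⟨hC, hHR, -, hmax⟩ := hgd.1 hH0
    have hfull : fixF F H0 = F := by
      refine le_antisymm (fun f hf => hf.1) ?_
      rw [hone] at hEAall
      conv_lhs => rw [← hEAall]
      exact hEAle _ _ ⟨hF.1, fun g _ => c.conj_z g⟩ fun H hH => by rw [Finset.mem_singleton.1 hH]
    have hH0C : H0 = C0 := le_antisymm (fun g hg => ⟨hHR hg, fun f hf => by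
      rw [← hfull] at hf; exact hf.2 g hg⟩) hC
    obtain ⟨x, hx, hxC⟩ : ∃ x ∈ R, x ∉ C0 := by
      by_contra h
      push Not at h
      rcases hfix a₀ ⟨ha₀, fun g hg => (h g hg).2 a₀ ha₀⟩ with h | h
      exacts [ha₀1 h, ha₀z h]
    have hlt : H0 < C0 ⊔ Subgroup.zpowers x := by
      rw [hH0C]
      exact lt_of_le_of_ne le_sup_left fun h =>
        hxC (h ▸ Subgroup.mem_sup_right (Subgroup.mem_zpowers x))
    have hjle : C0 ⊔ Subgroup.zpowers x ≤ R := sup_le hC0R (Subgroup.zpowers_le.2 hx)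
    refine lifts_base c hF ⟨a₀, ha₀, ha₀1, ha₀z⟩ hS2 hSF hr2 (g := x) (hRF x hx) (hpow x hx)
      (fun f hf hfx => ?_) fun s hs => ?_
    · let St : Subgroup G :=
        { carrier := {u | conjBy E u f = f}
          one_mem' := conjBy_one _
          mul_mem' := fun {a b} ha hb => by
            show conjBy E (a * b) _ = _
            rw [conjBy_mul, hb, ha]
          inv_mem' := fun {a} ha => by
            show conjBy E a⁻¹ _ = _
            conv_lhs => rw [← ha]
            exact conjBy_inv_cancel a _ }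
      exact hmax _ hlt hjle f ⟨hf, fun u hu =>
        (sup_le (fun u hu => hu.2 f hf) (Subgroup.zpowers_le.2 hfx) : C0 ⊔ Subgroup.zpowers x ≤ St) hu⟩
    · have hmem : s * x * s⁻¹ ∈ C0 ⊔ Subgroup.zpowers x := by
        refine hcyc F hF le_rfl hRF C0 le_rfl hC0R
          ⟨a₀, ⟨ha₀, fun g hg => (hg : g ∈ R ⊓ actKer F).2 a₀ ha₀⟩, ha₀1, ha₀z⟩
          (fun H' h1 h2 => hmax H' (hH0C ▸ h1) h2) x hx hxC _ (hSR s hs x hx)
      rw [← SetLike.mem_coe, Subgroup.coe_mul_of_right_le_normalizer_left _ _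
        (Subgroup.zpowers_le.2 (Subgroup.mem_normalizer_iff.2 fun h => ⟨fun hh => hRH C0 le_rfl hC0R x hx h hh,
          fun hh => by
            have := hRH C0 le_rfl hC0R x⁻¹ (inv_mem hx) _ hh
            simpa [mul_assoc] using this⟩))] at hmem
      obtain ⟨d, hd, y, hy, hdy⟩ := hmem
      obtain ⟨i, rfl⟩ := (isOfFinOrder_of_finite x).mem_powers_iff_mem_zpowers.2 hy
      refine ⟨i, fun f hf => ?_⟩
      rw [← hdy, conjBy_mul]
      exact hd.2 _ ((hRF x hx).pow i f hf)
  -- several good subgroups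
  set O := goods.filter fun H => ∃ g ∈ S, cjS g H0 = H with hO
  have hH0O : H0 ∈ O := Finset.mem_filter.2 ⟨hH0, 1, one_mem S, cjS_one H0⟩
  by_cases htr : O = goods
  swap
  · -- the orbit and the rest
    have hsub : O ⊆ goods := Finset.filter_subset _ _
    have hrest : (goods \ O).Nonempty :=
      Finset.sdiff_nonempty.2 fun h => htr (Finset.Subset.antisymm hsub h)
    have hstO : ∀ g ∈ S, Stab (EA O) g := fun g hg => hEAmap O O g fun H hH => by
      obtain ⟨hHg, k, hk, rfl⟩ := Finset.mem_filter.1 hH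
      exact ⟨_, Finset.mem_filter.2 ⟨hgd.2 (hcjgood g hg _ (hgd.1 hHg)), g * k, mul_mem hg hk,
        cjS_mul g k H0⟩, fixF_conj (hSF g hg)⟩
    have hstR : ∀ g ∈ S, Stab (EA (goods \ O)) g := fun g hg => hEAmap _ _ g fun H hH => by
      obtain ⟨hHg, hnO⟩ := Finset.mem_sdiff.1 hH
      refine ⟨_, Finset.mem_sdiff.2 ⟨hgd.2 (hcjgood g hg _ (hgd.1 hHg)), fun h => hnO ?_⟩,
        fixF_conj (hSF g hg)⟩
      obtain ⟨-, k, hk, hke⟩ := Finset.mem_filter.1 h
      refine Finset.mem_filter.2 ⟨hHg, g⁻¹ * k, mul_mem (inv_mem hg) hk, ?_⟩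
      rw [cjS_mul, hke, ← cjS_mul, inv_mul_cancel, cjS_one]
    obtain ⟨T1, hT1⟩ := hrec S le_rfl O hsub _ Finset.sdiff_subset Finset.disjoint_sdiff hrest hstO
    obtain ⟨T2, hT2⟩ := hrec S le_rfl _ Finset.sdiff_subset O hsub Finset.sdiff_disjoint ⟨H0, hH0O⟩ hstR
    obtain ⟨T, -, -, hT⟩ := c.lifts_sup (hEAnd O hsub) (hEAnd _ Finset.sdiff_subset)
      (hEAcomm O hsub _ Finset.sdiff_subset Finset.disjoint_sdiff) hstO hstR hT1 hT2
    have hFe : EA O ⊔ EA (goods \ O) = F := by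
      refine le_antisymm (sup_le (hEAF _) (hEAF _)) ?_
      conv_lhs => rw [← hEAall]
      refine hEAle _ _ (Subgroup.mem_sup_left (hEAz _)) fun H hH => ?_
      by_cases h : H ∈ O
      · exact (hEAmem O H h).trans le_sup_left
      · exact (hEAmem _ H (Finset.mem_sdiff.2 ⟨hH, h⟩)).trans le_sup_right
    exact ⟨T, hFe ▸ hT⟩
  -- a transitive action: two halves exchanged
  let St : Subgroup S :=
    { carrier := {g | cjS (g : G) H0 = H0}
      one_mem' := cjS_one H0
      mul_mem' := fun {a b} ha hb => by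
        show cjS ((a : G) * b) H0 = H0
        rw [cjS_mul, hb, ha]
      inv_mem' := fun {a} ha => by
        show cjS (a : G)⁻¹ H0 = H0
        conv_lhs => rw [← ha]
        rw [← cjS_mul, inv_mul_cancel, cjS_one] }
  obtain ⟨k, hk⟩ := IsPGroup.iff_card.1 hS2
  obtain ⟨j, hj⟩ := IsPGroup.iff_card.1 (hS2.to_subgroup St)
  have hjk : j < k := by
    have hne : St ≠ ⊤ := fun h => hone (Finset.eq_singleton_iff_unique_mem.2 ⟨hH0, fun H hH => by
      rw [← htr] at hH
      obtain ⟨-, g, hg, rfl⟩ := Finset.mem_filter.1 hH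
      exact (h ▸ Subgroup.mem_top (⟨g, hg⟩ : S) : (⟨g, hg⟩ : S) ∈ St)⟩)
    have h1 : Nat.card St < Nat.card S := lt_of_le_of_ne
      (Subgroup.card_le_card_group St) fun h => hne (Subgroup.eq_top_of_card_eq St h)
    rw [hj, hk] at h1
    exact (Nat.pow_lt_pow_iff_right one_lt_two).1 h1
  obtain ⟨K, hKc, hKle⟩ := Sylow.exists_subgroup_card_pow_prime_le 2 (m := k - 1)
    (hk ▸ pow_dvd_pow 2 (Nat.sub_le k 1)) St hj (by omega)
  have hKi : K.index = 2 := by
    have h := K.card_mul_index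
    rw [hKc, hk, show 2 ^ k = 2 ^ (k - 1) * 2 by rw [← pow_succ]; congr 1; omega] at h
    exact Nat.eq_of_mul_eq_mul_left (pow_pos two_pos _) h
  obtain ⟨⟨t, htS⟩, ht⟩ : ∃ t : S, t ∉ K := by
    by_contra h
    push Not at h
    rw [(Subgroup.eq_top_iff' K).2 h, Subgroup.index_top] at hKi
    omega
  haveI := Subgroup.normal_of_index_eq_two hKi
  set S0 : Subgroup G := K.map S.subtype with hS0
  have hS0le : S0 ≤ S := Subgroup.map_subtype_le _
  have hmem0 : ∀ g (hg : g ∈ S), g ∈ S0 ↔ (⟨g, hg⟩ : S) ∈ K := fun g hg =>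
    ⟨fun ⟨u, hu, he⟩ => (Subtype.ext he : u = ⟨g, hg⟩) ▸ hu, fun h => ⟨⟨g, hg⟩, h, rfl⟩⟩
  have htt : t * t ∈ S0 := (hmem0 _ (mul_mem htS htS)).2
    (Subgroup.mul_self_mem_of_index_two hKi ⟨t, htS⟩)
  have hn0 : ∀ x ∈ S0, t * x * t⁻¹ ∈ S0 := by
    rintro _ ⟨u, hu, rfl⟩
    exact ⟨⟨t, htS⟩ * u * (⟨t, htS⟩ : S)⁻¹, Subgroup.Normal.conj_mem inferInstance u hu _, rfl⟩
  have hn0' : ∀ x ∈ S0, t⁻¹ * x * t ∈ S0 := by
    rintro _ ⟨u, hu, rfl⟩
    refine ⟨(⟨t, htS⟩ : S)⁻¹ * u * (⟨t, htS⟩ : S)⁻¹⁻¹, Subgroup.Normal.conj_mem inferInstance u hu _,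
      by simp⟩
  have hgen0 : ∀ g ∈ S, g ∈ S0 ∨ g * t⁻¹ ∈ S0 := by
    intro g hg
    by_cases h : g ∈ S0
    · exact Or.inl h
    · refine Or.inr ((hmem0 _ (mul_mem hg (inv_mem htS))).2 ?_)
      rw [show (⟨g * t⁻¹, mul_mem hg (inv_mem htS)⟩ : S) = ⟨g, hg⟩ * (⟨t, htS⟩ : S)⁻¹ from rfl,
        Subgroup.mul_mem_iff_of_index_two hKi, inv_mem_iff]
      exact ⟨fun h' => absurd ((hmem0 g hg).2 h') h, fun h' => absurd h' ht⟩
  set A := goods.filter fun H => ∃ g ∈ S0, cjS g H0 = H with hAdef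
  set B := goods.filter fun H => ∃ g ∈ S0, cjS t (cjS g H0) = H with hBdef
  have hAs : A ⊆ goods := Finset.filter_subset _ _
  have hBs : B ⊆ goods := Finset.filter_subset _ _
  have hdis : Disjoint A B := by
    refine Finset.disjoint_left.2 fun H h1 h2 => ht ?_
    obtain ⟨-, g, hg, rfl⟩ := Finset.mem_filter.1 h1
    obtain ⟨-, g', hg', he⟩ := Finset.mem_filter.1 h2
    rw [← cjS_mul] at he
    have hSt : (⟨g⁻¹ * (t * g'), mul_mem (inv_mem (hS0le hg)) (mul_mem htS (hS0le hg'))⟩ : S) ∈ St := by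
      show cjS (g⁻¹ * (t * g')) H0 = H0
      rw [cjS_mul, he, ← cjS_mul, inv_mul_cancel, cjS_one]
    have h3 := hKle hSt
    rw [show (⟨g⁻¹ * (t * g'), _⟩ : S) = (⟨g, hS0le hg⟩ : S)⁻¹ * (⟨t, htS⟩ * ⟨g', hS0le hg'⟩) from rfl,
      Subgroup.mul_mem_cancel_left _ (inv_mem ((hmem0 g _).1 hg)),
      Subgroup.mul_mem_cancel_right _ ((hmem0 g' _).1 hg')] at h3
    exact h3
  have hstA : ∀ g ∈ S0, Stab (EA A) g := fun g hg => hEAmap A A g fun H hH => by
    obtain ⟨hHg, k, hk, rfl⟩ := Finset.mem_filter.1 hH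
    exact ⟨_, Finset.mem_filter.2 ⟨hgd.2 (hcjgood g (hS0le hg) _ (hgd.1 hHg)), g * k, mul_mem hg hk,
      cjS_mul g k H0⟩, fixF_conj (hSF g (hS0le hg))⟩
  have hstB : ∀ g ∈ S0, Stab (EA B) g := fun g hg => hEAmap B B g fun H hH => by
    obtain ⟨hHg, k, hk, rfl⟩ := Finset.mem_filter.1 hH
    refine ⟨_, Finset.mem_filter.2 ⟨hgd.2 (hcjgood g (hS0le hg) _ (hgd.1 hHg)),
      t⁻¹ * g * t * k, mul_mem (hn0' g hg) hk, ?_⟩, fixF_conj (hSF g (hS0le hg))⟩
    rw [← cjS_mul, ← cjS_mul, ← cjS_mul]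
    congr 1
    group
  have hAB : ∀ f ∈ EA A, conjBy E t f ∈ EA B := hEAmap A B t fun H hH => by
    obtain ⟨hHg, k, hk, rfl⟩ := Finset.mem_filter.1 hH
    exact ⟨_, Finset.mem_filter.2 ⟨hgd.2 (hcjgood t htS _ (hgd.1 hHg)), k, hk, rfl⟩,
      fixF_conj (hSF t htS)⟩
  have hBA : ∀ f ∈ EA B, conjBy E t f ∈ EA A := hEAmap B A t fun H hH => by
    obtain ⟨hHg, k, hk, rfl⟩ := Finset.mem_filter.1 hH
    exact ⟨_, Finset.mem_filter.2 ⟨hgd.2 (hcjgood t htS _ (hgd.1 hHg)), t * t * k, mul_mem htt hk,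
      by rw [← cjS_mul, ← cjS_mul]⟩, fixF_conj (hSF t htS)⟩
  have hFe : EA A ⊔ EA B = F := by
    refine le_antisymm (sup_le (hEAF _) (hEAF _)) ?_
    conv_lhs => rw [← hEAall]
    refine hEAle _ _ (Subgroup.mem_sup_left (hEAz _)) fun H hH => ?_
    have hH' := hH
    rw [← htr] at hH'
    obtain ⟨-, g, hg, rfl⟩ := Finset.mem_filter.1 hH'
    rcases hgen0 g hg with h | h
    · exact (hEAmem A _ (Finset.mem_filter.2 ⟨hH, g, h, rfl⟩)).trans le_sup_left
    · refine (hEAmem B _ (Finset.mem_filter.2 ⟨hH, t⁻¹ * (g * t⁻¹) * t, hn0' _ h, ?_⟩)).trans le_sup_right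
      rw [← cjS_mul]
      congr 1
      group
  have hBne : B.Nonempty := ⟨_, Finset.mem_filter.2 ⟨hgd.2 (hcjgood t htS _ (hgd.1 hH0)),
    1, one_mem S0, by rw [cjS_one]⟩⟩
  rw [← hFe]
  refine c.lifts_swap (hEAnd A hAs) (hEAnd B hBs) (hEAcomm A hAs B hBs hdis) (hFe ▸ hF) hS0le htS
    hn0 hn0' (fun g hg => ?_) htt hstA hstB hAB hBA (hrec S0 hS0le A hAs B hBs hdis hBne hstA)
  rcases hgen0 g hg with h | h
  · exact ⟨0, g, h, by rw [pow_zero, mul_one]⟩
  · exact ⟨1, _, h, by rw [pow_one, inv_mul_cancel_right]⟩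

/-- The main claim. -/
theorem lifts_of_odd {S : Subgroup G} (hS2 : IsPGroup 2 S) {K : Subgroup G}
    (hK : Odd (Nat.card K)) (hSK : ∀ g ∈ S, ∀ x ∈ K, g * x * g⁻¹ ∈ K) :
    ∀ n, ∀ F : Subgroup E, Nat.card F = n → Nondeg z F → (∀ g ∈ S, Stab F g) →
      (∀ g ∈ K, Stab F g) → Small z (fixF F K) → Lifts ρ F S := by
  classical
  intro n
  induction n using Nat.strong_induction_on with
  | _ n ih =>
  intro F hn hF hSF hKF hfix
  rcases c.small_or_exists F with hsm | ⟨a₀, ha₀, ha₀1, ha₀z⟩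
  · exact c.lifts_small hsm S
  haveI : Group.IsSolvable K := FT.isSolvable_of_odd hK
  obtain ⟨N, hN⟩ := (isSolvable_def (G := K)).1 inferInstance
  have hex : ∃ i, dser K i ≤ actKer F := ⟨N, by rw [dser_eq_map, hN, Subgroup.map_bot]; exact bot_le⟩
  have hi0 : Nat.find hex ≠ 0 := fun h0 => by
    have h := Nat.find_spec hex
    rw [h0] at h
    rcases hfix a₀ ⟨ha₀, fun g hg => h hg a₀ ha₀⟩ with h | h
    exacts [ha₀1 h, ha₀z h]
  obtain ⟨i, hi⟩ := Nat.exists_eq_succ_of_ne_zero hi0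
  have hspec := Nat.find_spec hex
  rw [hi] at hspec
  have hnot : ¬ dser K i ≤ actKer F := Nat.find_min hex (by omega)
  set D := dser K i
  have hDK : D ≤ K := dser_le K i
  have hKD : ∀ g, (g ∈ S ∨ g ∈ K) → ∀ x ∈ D, g * x * g⁻¹ ∈ D := fun g hg =>
    dser_conj (hg.elim (fun h => hSK g h) fun h x hx => mul_mem (mul_mem h hx) (inv_mem h)) i
  have hab : ∀ a ∈ D, ∀ b ∈ D, ∀ f ∈ F, conjBy E (a * b) f = conjBy E (b * a) f := by
    intro a ha b hb f hf
    have hcm : ⁅a, b⁆ ∈ actKer F := hspec (Subgroup.commutator_mem_commutator ha hb)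
    rw [show a * b = ⁅a, b⁆ * (b * a) by rw [commutatorElement_def]; group, conjBy_mul,
      hcm _ (((hKF b (hDK hb)).mul (hKF a (hDK ha))) f hf)]
  -- an element of prime order modulo the kernel
  obtain ⟨y, hy, hyC⟩ := SetLike.not_le_iff_exists.1 hnot
  have hexm : ∃ m, 0 < m ∧ y ^ m ∈ actKer F :=
    ⟨orderOf y, orderOf_pos y, by rw [pow_orderOf_eq_one]; exact one_mem _⟩
  set m := Nat.find hexm
  obtain ⟨hm0, hym⟩ := Nat.find_spec hexm
  have hm1 : m ≠ 1 := fun h => hyC (by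
    have hym' : y ^ m ∈ actKer F := hym
    rwa [h, pow_one] at hym')
  set r := m.minFac
  haveI : Fact r.Prime := ⟨Nat.minFac_prime hm1⟩
  have hrm : r ∣ m := Nat.minFac_dvd m
  have hmy : m ∣ orderOf y := by
    by_contra hd
    have hlt : orderOf y % m < m := Nat.mod_lt _ hm0
    refine Nat.find_min hexm hlt ⟨Nat.pos_of_ne_zero fun h => hd (Nat.dvd_of_mod_eq_zero h), ?_⟩
    have h1 : y ^ orderOf y ∈ actKer F := by rw [pow_orderOf_eq_one]; exact one_mem _
    rw [← Nat.div_add_mod (orderOf y) m, pow_add, pow_mul] at h1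
    exact (Subgroup.mul_mem_cancel_left _ (pow_mem hym _)).1 h1
  have hr2 : r ≠ 2 := by
    intro h
    have h2 : 2 ∣ Nat.card K :=
      (h ▸ hrm).trans (hmy.trans (Subgroup.orderOf_dvd_natCard K (hDK hy)))
    exact Nat.not_even_iff_odd.2 hK (even_iff_two_dvd.2 h2)
  have hpowmul : ∀ a ∈ D, ∀ b ∈ D, ∀ k : ℕ, ∀ f ∈ F,
      conjBy E ((a * b) ^ k) f = conjBy E (a ^ k * b ^ k) f := by
    intro a ha b hb k
    induction k with
    | zero => intro f hf; simp
    | succ k ihk =>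
      intro f hf
      have hbk : b ^ k ∈ D := pow_mem hb k
      rw [pow_succ, conjBy_mul, ihk _ (((hKF a (hDK ha)).mul (hKF b (hDK hb))) f hf), ← conjBy_mul,
        show a ^ k * b ^ k * (a * b) = a ^ k * ((b ^ k * a) * b) by group, conjBy_mul,
        conjBy_mul (b ^ k * a), hab _ hbk a ha _ (hKF b (hDK hb) f hf), ← conjBy_mul, ← conjBy_mul]
      congr 2
      rw [pow_succ, pow_succ]; group
  let R : Subgroup G :=
    { carrier := {g | g ∈ D ∧ g ^ r ∈ actKer F}
      one_mem' := ⟨one_mem _, by rw [one_pow]; exact one_mem _⟩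
      mul_mem' := fun {a b} ha hb => ⟨mul_mem ha.1 hb.1, fun f hf => by
        rw [hpowmul a ha.1 b hb.1 r f hf, conjBy_mul, hb.2 f hf, ha.2 f hf]⟩
      inv_mem' := fun {a} ha => ⟨inv_mem ha.1, by rw [inv_pow]; exact inv_mem ha.2⟩ }
  have hRD : R ≤ D := fun g hg => hg.1
  have hRK : ∀ g, (g ∈ S ∨ g ∈ K) → (∀ x ∈ R, g * x * g⁻¹ ∈ R) := fun g hg x hx => by
    have hgF : Stab F g := hg.elim (hSF g) (hKF g)
    refine ⟨hKD g hg x hx.1, fun f hf => ?_⟩
    rw [conj_pow, conjBy_mul, conjBy_mul, hx.2 _ (hgF.inv f hf), conjBy_cancel_inv]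
  have hRF : ∀ g ∈ R, Stab F g := fun g hg => hKF g (hDK hg.1)
  have hRodd : Odd (Nat.card R) :=
    hK.of_dvd_nat (Subgroup.card_dvd_of_le (hRD.trans hDK))
  obtain ⟨x, hx, hxC⟩ : ∃ x ∈ R, x ∉ actKer F := by
    refine ⟨y ^ (m / r), ⟨pow_mem hy _, by rw [← pow_mul, Nat.div_mul_cancel hrm]; exact hym⟩,
      fun h => ?_⟩
    have hlt : m / r < m := Nat.div_lt_self hm0 (Nat.minFac_prime hm1).one_lt
    exact Nat.find_min hexm hlt ⟨Nat.div_pos (Nat.le_of_dvd hm0 hrm) (Nat.minFac_pos m), h⟩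
  set A := fixF F R with hA
  rcases c.small_or_exists A with hsm | ⟨u, hu, hu1, huz⟩
  · exact c.lifts_abelian hr2 hRodd hS2 (fun g hg => hRK g (Or.inl hg)) _ F rfl hF hSF hRF
      (fun a ha b hb => hab a ha.1 b hb.1) (fun a ha => ha.2) hsm
  -- split off the fixed points of `R`
  have hAnd : Nondeg z A := c.nondeg_fixF hF hRodd hRF
  obtain ⟨hBnd, hsup⟩ := c.orth hF hAnd fun f hf => hf.1
  set B := F ⊓ Subgroup.centralizer (A : Set E)
  have hAst : ∀ g, (g ∈ S ∨ g ∈ K) → Stab A g := fun g hg =>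
    c.stab_of_conj hA (hg.elim (hSF g) (hKF g)) (hRK g hg)
  have hBst : ∀ g, (g ∈ S ∨ g ∈ K) → Stab B g := fun g hg f hf =>
    ⟨(hg.elim (hSF g) (hKF g)) f hf.1, (hAst g hg).centralizer f hf.2⟩
  have hltA : Nat.card A < n := by
    by_contra hle
    have hAF : A = F := Subgroup.eq_of_le_of_card_ge (fun f hf => hf.1) (by omega)
    exact hxC fun f hf => by rw [← hAF] at hf; exact hf.2 x hx
  have hltB : Nat.card B < n := by
    refine hn ▸ c.card_lt inf_le_left (x := u) hu.1 fun h => ?_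
    rcases hAnd.2 u hu fun b hb => ((h : u ∈ B).2 b hb).symm with h | h
    exacts [hu1 h, huz h]
  obtain ⟨T1, hT1⟩ := ih _ hltA A rfl hAnd (fun g hg => hAst g (Or.inl hg))
    (fun g hg => hAst g (Or.inr hg)) fun v hv => hfix v (fixF_mono (F := A) (F' := F) (fun f (hf : f ∈ fixF F R) => hf.1) K hv)
  obtain ⟨T2, hT2⟩ := ih _ hltB B rfl hBnd (fun g hg => hBst g (Or.inl hg))
    (fun g hg => hBst g (Or.inr hg)) fun v hv => hfix v (fixF_mono inf_le_left K hv)
  obtain ⟨T, -, -, hT⟩ := c.lifts_sup hAnd hBnd (fun a ha b hb => hb.2 a ha)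
    (fun g hg => hAst g (Or.inl hg)) (fun g hg => hBst g (Or.inl hg)) hT1 hT2
  exact ⟨T, hsup ▸ hT⟩

end Ctx

end CfsgLib.ExtraExt
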